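import Groth.Prelude.Def_AgPol
import Groth.Prelude.Def_CohB1
import Groth.Agent.Flat2G.ProperDim
import Groth.Agent.Flat2B.SmoothGeom
import Groth.Agent.Ega43.GeomFibre
import Groth.Agent.S1364
import Groth.Agent.S1335
import Groth.Agent.S0403
import Groth.Agent.S0404
import Groth.Agent.Lift.K695.FlatProper
import Groth.Agent.Smoothlim.SmoothLocusBC

/-!
# Algebraization of adic systems: smoothness, connectedness and dimension of the fibres

`A` Noetherian local, `Y` proper over `A` with smooth thickenings `X n` over `A/m^(n+1)`.  Then `Y` is smooth over `A`;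
if the closed fibre is geometrically connected of dimension `g`, so are all the fibres.
-/

set_option autoImplicit false
universe u

open CategoryTheory CategoryTheory.Limits AlgebraicGeometry Opposite TopologicalSpace

namespace K151.AlgAb

open Groth.Agent

section Geometry

variable {C T : Scheme.{u}} (p : C ⟶ T) [Smooth p] [IsProper p] [PreconnectedSpace T]

/-- The dimension of the fibres of a smooth proper morphism to a connected scheme is constant. -/
theorem dim_eq (s t : T) : topologicalKrullDim (p.fiber s) = topologicalKrullDim (p.fiber t) := by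
  have key : ∀ c : WithBot ℕ∞, IsClopen {s : T | topologicalKrullDim (p.fiber s) ≤ c} := by
    intro c
    refine ⟨⟨?_⟩, Groth.Agent.S0403.result p c⟩
    have h : {s : T | topologicalKrullDim (p.fiber s) ≤ c}ᶜ = {s : T | c < topologicalKrullDim (p.fiber s)} := by
      ext x
      simp
    rw [h]
    exact Groth.Agent.S0404.result p c
  have le : ∀ s t : T, topologicalKrullDim (p.fiber s) ≤ topologicalKrullDim (p.fiber t) := by
    intro s t
    have h1 : {s : T | topologicalKrullDim (p.fiber s) ≤ topologicalKrullDim (p.fiber t)} = Set.univ :=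
      (isClopen_iff.mp (key _)).resolve_left fun h => by
        have h2 : t ∈ {s : T | topologicalKrullDim (p.fiber s) ≤ topologicalKrullDim (p.fiber t)} :=
          le_refl (topologicalKrullDim (p.fiber t))
        rw [h] at h2
        exact h2
    have h3 : s ∈ {s : T | topologicalKrullDim (p.fiber s) ≤ topologicalKrullDim (p.fiber t)} := by
      rw [h1]
      trivial
    exact h3
  exact le_antisymm (le s t) (le t s)

omit [IsProper p] [PreconnectedSpace T] in
omit [IsProper p] [PreconnectedSpace T] in
theorem geometricallyReduced : GeometricallyReduced p :=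
  ⟨fun K _ y Z fst snd hZ => by
    have : Smooth snd := MorphismProperty.of_isPullback hZ inferInstance
    exact Groth.Agent.Flat2B.SmoothGeom.isReduced_of_smooth snd⟩

theorem nGeomConnComp_eq (s t : T) : MoreMor.nGeomConnComp p s = MoreMor.nGeomConnComp p t := by
  have := geometricallyReduced p
  exact (Groth.Agent.S1364.result p).apply_eq_of_isPreconnected
    (PreconnectedSpace.isPreconnected_univ) (Set.mem_univ s) (Set.mem_univ t)

/-- If one fibre is geometrically connected, every base change to a field is connected. -/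
theorem connectedSpace (s : T) (hs : MoreMor.nGeomConnComp p s = 1)
    {K : Type u} [Field K] (y : Spec (CommRingCat.of K) ⟶ T) {Z : Scheme.{u}} {a : Z ⟶ C}
    {q : Z ⟶ Spec (CommRingCat.of K)} (h : IsPullback a q p y) : ConnectedSpace Z := by
  set x : T := y (IsLocalRing.closedPoint K) with hx
  have h1 : GeometricallyConnected (p.fiberToSpecResidueField x) :=
    Groth.Agent.Ega43.GeomFibre.geometricallyConnected_of_nGeomConnComp p x
      ((nGeomConnComp_eq p x s).trans hs)
  let ψ : T.residueField x ⟶ CommRingCat.of K :=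
    Scheme.descResidueField (Scheme.stalkClosedPointTo y)
  have hψ : Spec.map ψ ≫ T.fromSpecResidueField x = y :=
    Scheme.descResidueField_stalkClosedPointTo_fromSpecResidueField K _ y
  have hP : IsPullback (p.fiberι x) (p.fiberToSpecResidueField x) p
      (T.fromSpecResidueField x) := IsPullback.of_hasPullback _ _
  let q' : Z ⟶ p.fiber x := hP.lift a (q ≫ Spec.map ψ)
    (by rw [h.w, Category.assoc, hψ])
  have hq1 : q' ≫ p.fiberι x = a := hP.lift_fst _ _ _
  have hq2 : q' ≫ p.fiberToSpecResidueField x = q ≫ Spec.map ψ := hP.lift_snd _ _ _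
  have hq : IsPullback q' q (p.fiberToSpecResidueField x) (Spec.map ψ) := by
    refine IsPullback.of_right (h₁₂ := p.fiberι x) (v₁₃ := p)
      (h₂₂ := T.fromSpecResidueField x) ?_ hq2 hP
    rw [hq1, hψ]
    exact h
  exact h1.geometrically_connectedSpace _ _ _ hq

/-- A smooth proper morphism to a connected scheme with one geometrically connected fibre has geometrically connected
fibres. -/
theorem geometricallyConnected {k : Type u} [Field k] {X : Scheme.{u}} {q : X ⟶ Spec (CommRingCat.of k)}
    {i : X ⟶ C} {y : Spec (CommRingCat.of k) ⟶ T} (sq : IsPullback i q p y) [GeometricallyConnected q] :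
    GeometricallyConnected p := by
  have hgc : GeometricallyConnected (q.fiberToSpecResidueField (IsLocalRing.closedPoint k)) :=
    ⟨fun K _ y Z fst snd hZ => by
      have h1 : IsPullback (q.fiberι (IsLocalRing.closedPoint k))
          (q.fiberToSpecResidueField (IsLocalRing.closedPoint k)) q
          ((Spec (CommRingCat.of k)).fromSpecResidueField (IsLocalRing.closedPoint k)) :=
        IsPullback.of_hasPullback _ _
      exact GeometricallyConnected.geometrically_connectedSpace _ _ _ (hZ.paste_horiz h1)⟩
  have hn0 : MoreMor.nGeomConnComp p (y (IsLocalRing.closedPoint k)) = 1 := by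
    rw [← Groth.Agent.S1335.result p q i y sq (IsLocalRing.closedPoint k)]
    exact Groth.Agent.Ega43.GeomFibre.nGeomConnComp_eq_one q _ hgc
  exact ⟨fun K _ y Z fst snd hZ => connectedSpace p _ hn0 y hZ⟩

theorem fibreDim {k : Type u} [Field k] {X : Scheme.{u}} {q : X ⟶ Spec (CommRingCat.of k)}
    {i : X ⟶ C} {y : Spec (CommRingCat.of k) ⟶ T} (sq : IsPullback i q p y) {d : WithBot ℕ∞}
    (hd : topologicalKrullDim ↥(q.fiber (IsLocalRing.closedPoint k)) = d) (s : T) :
    topologicalKrullDim ↥(p.fiber s) = d := by
  have hq : Smooth q := MorphismProperty.of_isPullback sq inferInstance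
  rw [dim_eq p s (y (IsLocalRing.closedPoint k)),
    ← Flat2G.ProperDim.topologicalKrullDim_field_point p (Field.toIsField k) q i y sq
      (IsLocalRing.closedPoint k), ← hd]
  exact Flat2G.ProperDim.topologicalKrullDim_field_point q (Field.toIsField k) q (𝟙 _) (𝟙 _)
    (IsPullback.of_horiz_isIso ⟨by simp⟩) (IsLocalRing.closedPoint k)

end Geometry

/-- Smoothness of a proper flat morphism to a local scheme from its closed fibre. -/
theorem smooth_of_closedFibre {A : Type u} [CommRing A] [IsLocalRing A] {k : Type u} [Field k]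
    {X X₀ : Scheme.{u}} (f : X ⟶ Spec (CommRingCat.of A)) [IsProper f] [Flat f]
    [LocallyOfFinitePresentation f] (ρ : A →+* k) (hρ : Function.Surjective ρ)
    (f₀ : X₀ ⟶ Spec (CommRingCat.of k)) [Smooth f₀] (j : X₀ ⟶ X)
    (sq : IsPullback j f₀ f (Spec.map (CommRingCat.ofHom ρ))) : Smooth f := by
  rw [← Scheme.Hom.smoothLocus_eq_top_iff, eq_top_iff]
  intro x _
  by_contra hx
  let Z : Set X := ((f.smoothLocus : X.Opens) : Set X)ᶜ
  have hZ : IsClosed Z := f.smoothLocus.isOpen.isClosed_compl
  have hfZ : IsClosed (f '' Z) := f.isClosedMap _ hZ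
  have hcl : IsLocalRing.closedPoint A ∈ f '' Z := by
    have h1 : (f x) ⤳ IsLocalRing.closedPoint A := IsLocalRing.specializes_closedPoint _
    exact h1.mem_closed hfZ ⟨x, hx, rfl⟩
  obtain ⟨y, hy, hyc⟩ := hcl
  have hpt : Spec.map (CommRingCat.ofHom ρ) (IsLocalRing.closedPoint k) = IsLocalRing.closedPoint A := by
    have h3 : RingHom.ker ρ = IsLocalRing.maximalIdeal A :=
      IsLocalRing.eq_maximalIdeal (RingHom.ker_isMaximal_of_surjective ρ hρ)
    apply PrimeSpectrum.ext
    change Ideal.comap ρ (IsLocalRing.maximalIdeal k) = IsLocalRing.maximalIdeal A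
    rw [IsLocalRing.isField_iff_maximalIdeal_eq.mp (Field.toIsField k), ← h3]
    rfl
  obtain ⟨z, hz⟩ : ∃ z, j z = y := by
    obtain ⟨w, hw, -⟩ := Scheme.Pullback.exists_preimage_pullback (f := f)
      (g := Spec.map (CommRingCat.ofHom ρ)) y (IsLocalRing.closedPoint k) (hyc.trans hpt.symm)
    refine ⟨sq.isoPullback.inv w, ?_⟩
    rw [← Scheme.Hom.comp_apply, sq.isoPullback_inv_fst, hw]
  have h4 := Groth.Agent.Smoothlim.SmoothLocusBC.mem_smoothLocus_iff_of_isPullback sq z
    (Or.inl (Flat.stalkMap f _))
  rw [hz] at h4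
  apply hy
  refine h4.mp ?_
  have h5 : f₀.smoothLocus = ⊤ := Scheme.Hom.smoothLocus_eq_top_iff.mpr inferInstance
  rw [h5]
  trivial

lemma locallyOfFinitePresentation_of_noetherian {X Y : Scheme.{u}} (f : X ⟶ Y)
    [IsLocallyNoetherian Y] [LocallyOfFiniteType f] : LocallyOfFinitePresentation f where
  finitePresentation_appLE {U} hU {V} hV e := by
    have : IsNoetherianRing Γ(Y, U) := IsLocallyNoetherian.component_noetherian ⟨U, hU⟩
    exact RingHom.FinitePresentation.of_finiteType.1 (f.finiteType_appLE hU hV e)

section Tower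

variable {A : Type u} [CommRing A] [IsLocalRing A] [IsNoetherianRing A]
  {X : ∀ n, Over (Spec (CommRingCat.of (A ⧸ IsLocalRing.maximalIdeal A ^ (n + 1))))}
  {Y : Over (Spec (CommRingCat.of A))} {e : ∀ n, (X n).left ⟶ Y.left}
  (he : ∀ n, IsPullback (e n) (X n).hom Y.hom (CohB1.specQuot (IsLocalRing.maximalIdeal A) n))

include he

/-- Flatness of a proper scheme from its thickenings. -/
theorem flat (hX : ∀ n, Flat (X n).hom) [IsProper Y.hom] : Flat Y.hom := by
  refine K695.FlatProper.flat_of_isProper A Y.hom (fun x hx => ?_)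
  refine K695.FlatProper.flat_stalkMap_of_thickenings A (IsLocalRing.maximalIdeal A) Y.hom (fun n => ?_) x ?_
  · have h1 := IsPullback.of_hasPullback Y.hom (CohB1.specQuot (IsLocalRing.maximalIdeal A) n)
    have h2 := IsPullback.isoIsPullback_hom_snd _ _ h1 (he n)
    have h3 := hX n
    change Flat (pullback.snd Y.hom (CohB1.specQuot (IsLocalRing.maximalIdeal A) n))
    rw [← h2]
    infer_instance
  · rw [hx]
    exact le_refl _

instance isMaximal_pow : (IsLocalRing.maximalIdeal A ^ (0 + 1)).IsMaximal := by
  rw [zero_add, pow_one]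
  infer_instance

/-- An adic system of abelian schemes algebraizes to an abelian scheme. -/
theorem isAbSch [IsDomain A] (g : ℕ) (hX : ∀ n, AgPol.IsAbSch (X n) g) (hY : IsProper Y.hom) :
    AgPol.IsAbSch Y g := by
  have := fun n => (hX n).smooth
  have hfl : Flat Y.hom := flat he (fun n => inferInstance)
  have hfp : LocallyOfFinitePresentation Y.hom := locallyOfFinitePresentation_of_noetherian Y.hom
  let _ : Field (A ⧸ IsLocalRing.maximalIdeal A ^ (0 + 1)) := Ideal.Quotient.field _
  have he0 : IsPullback (e 0) (X 0).hom Y.hom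
    (Spec.map (CommRingCat.ofHom (Ideal.Quotient.mk (IsLocalRing.maximalIdeal A ^ (0 + 1))))) := he 0
  have hsm : Smooth Y.hom := smooth_of_closedFibre Y.hom (Ideal.Quotient.mk (IsLocalRing.maximalIdeal A ^ (0 + 1)))
    Ideal.Quotient.mk_surjective (X 0).hom (e 0) he0
  have hpc : PreconnectedSpace ↥(Spec (CommRingCat.of A)) :=
    inferInstanceAs (PreconnectedSpace (PrimeSpectrum A))
  have hgc := (hX 0).geomConnected
  exact ⟨hsm, hY, geometricallyConnected Y.hom (he 0), fun s => fibreDim Y.hom (he 0) ((hX 0).fibreDim _) s⟩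

end Tower

end K151.AlgAb
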