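import Groth.Agent.AbVar.K151.AlgSys
import Groth.Agent.Sga3B.BcPts
import Groth.Agent.Sga3B.Pts

/-!
# Algebraization of adic systems: group schemes

`A` Noetherian and complete for `I`, `X n` group schemes over `A/I^(n+1)` which are the thickenings of a proper scheme
`Y` over `A` (cartesian squares `e n`), with transition maps `i n` compatible with the multiplications (`IsMul`).
Then `Y` is a group scheme and the `e n` are compatible with the multiplications.
-/

set_option autoImplicit false
universe u

open CategoryTheory CategoryTheory.Limits AlgebraicGeometry MonoidalCategory CartesianMonoidalCategory MonObj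

namespace K151.AlgGrp

open Groth.Agent.S0039 K151.AlgSys

section Push

variable {S S' : Scheme.{u}} (t : S ⟶ S') {X : Over S} {X' : Over S'} (i : X.left ⟶ X'.left)
  (hi : i ≫ X'.hom = X.hom ≫ t)

/-- A point of `X` as a point of `X'` along a morphism `i : X ⟶ X'` over `t : S ⟶ S'`. -/
def push {T : Over S} (a : T ⟶ X) : Over.mk (T.hom ≫ t) ⟶ X' :=
  Over.homMk (a.left ≫ i) (by
    change (a.left ≫ i) ≫ X'.hom = T.hom ≫ t
    rw [Category.assoc, hi, ← Category.assoc, Over.w])

@[simp] lemma push_left {T : Over S} (a : T ⟶ X) : (push t i hi a).left = a.left ≫ i := rfl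

/-- A morphism of the total spaces of two group schemes over different bases respects the multiplications. -/
def IsMul [GrpObj X] [GrpObj X'] : Prop :=
  ∀ (T : Over S) (a b : T ⟶ X), push t i hi (a * b) = push t i hi a * push t i hi b

variable {t i hi}

lemma IsMul.map_one [GrpObj X] [GrpObj X'] (H : IsMul t i hi) (T : Over S) :
    push t i hi (1 : T ⟶ X) = 1 := by
  have h := H T 1 1
  rw [_root_.one_mul] at h
  exact mul_eq_left.mp h.symm

lemma IsMul.map_inv [GrpObj X] [GrpObj X'] (H : IsMul t i hi) (T : Over S) (a : T ⟶ X) :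
    push t i hi a⁻¹ = (push t i hi a)⁻¹ := by
  rw [eq_inv_iff_mul_eq_one, ← H, inv_mul_cancel, H.map_one]

/-- For a cartesian square, points push injectively. -/
lemma push_injective (hc : IsPullback i X.hom X'.hom t) {T : Over S} {a b : T ⟶ X}
    (h : push t i hc.w a = push t i hc.w b) : a = b := by
  ext1
  refine hc.hom_ext (congrArg (fun z => z.left) h) ?_
  rw [Over.w, Over.w]

/-- For a cartesian square, points push surjectively. -/
lemma exists_push (hc : IsPullback i X.hom X'.hom t) {T : Over S} (c : Over.mk (T.hom ≫ t) ⟶ X') :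
    ∃ a : T ⟶ X, push t i hc.w a = c := by
  have hw : c.left ≫ X'.hom = T.hom ≫ t := Over.w c
  refine ⟨Over.homMk (hc.lift c.left T.hom hw) (hc.lift_snd _ _ _), ?_⟩
  ext1
  exact hc.lift_fst _ _ _

/-- The base change of a group scheme. -/
lemma isMul_bc (t : S ⟶ S') (X' : Over S') [GrpObj X'] :
    IsMul (X := Red.bc t X') (X' := X') t (pullback.fst X'.hom t) pullback.condition := by
  intro T a b
  have key : ∀ c : T ⟶ Red.bc t X', push (X := Red.bc t X') t (pullback.fst X'.hom t)
      pullback.condition c = (Groth.Agent.Sga3B.BcPts.bcEquiv t T X').symm c := by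
    intro c
    ext1
    rfl
  rw [key, key, key]
  exact (Groth.Agent.Sga3B.BcPts.bcMulEquiv t T X').symm.map_mul a b

end Push

section Level

variable {A : Type u} [CommRing A] {I : Ideal A} {Y : Over (Spec (CommRingCat.of A))}
  {X : ∀ n, Over (Spec (CommRingCat.of (A ⧸ I ^ (n + 1))))}
  {i : ∀ n, (X n).left ⟶ (X (n + 1)).left} {e : ∀ n, (X n).left ⟶ Y.left}

/-- The thickening of an `A`-scheme as a scheme over `A/I^(n+1)`. -/
noncomputable abbrev lev (I : Ideal A) (n : ℕ) (T : Over (Spec (CommRingCat.of A))) :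
    Over (Spec (CommRingCat.of (A ⧸ I ^ (n + 1)))) :=
  Over.mk (CohB1.thickToBase T.hom I n)

/-- Functoriality of the thickenings. -/
noncomputable def levMap (I : Ideal A) (n : ℕ) {T T' : Over (Spec (CommRingCat.of A))} (g : T ⟶ T') :
    lev I n T ⟶ lev I n T' :=
  Over.homMk ((thick_isPullback I T'.hom n).lift (CohB1.thickι T.hom I n ≫ g.left)
    (CohB1.thickToBase T.hom I n) (by
      rw [Category.assoc, Over.w]
      exact (thick_isPullback I T.hom n).w)) ((thick_isPullback I T'.hom n).lift_snd _ _ _)

@[reassoc (attr := simp)]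
lemma levMap_ι (n : ℕ) {T T' : Over (Spec (CommRingCat.of A))} (g : T ⟶ T') :
    (levMap I n g).left ≫ CohB1.thickι T'.hom I n = CohB1.thickι T.hom I n ≫ g.left :=
  (thick_isPullback I T'.hom n).lift_fst _ _ _

/-- The transition maps of the thickenings. -/
noncomputable def tr (I : Ideal A) (n : ℕ) (T : Over (Spec (CommRingCat.of A))) :
    Over.mk ((lev I n T).hom ≫ CohB1.specQuotTrans I n) ⟶ lev I (n + 1) T :=
  Over.homMk (CohB1.thickTrans T.hom I n) (thickTrans_toBase I T.hom n)

@[reassoc (attr := simp)]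
lemma tr_ι (n : ℕ) (T : Over (Spec (CommRingCat.of A))) :
    (tr I n T).left ≫ CohB1.thickι T.hom I (n + 1) = CohB1.thickι T.hom I n :=
  thickTrans_ι I T.hom n

variable (he : ∀ n, IsPullback (e n) (X n).hom Y.hom (CohB1.specQuot I n))

/-- The restriction of a point of `Y` to the thickenings. -/
noncomputable def res (n : ℕ) {T : Over (Spec (CommRingCat.of A))} (a : T ⟶ Y) : lev I n T ⟶ X n :=
  Over.homMk ((he n).lift (CohB1.thickι T.hom I n ≫ a.left) (CohB1.thickToBase T.hom I n) (by
    rw [Category.assoc, Over.w]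
    exact (thick_isPullback I T.hom n).w)) ((he n).lift_snd _ _ _)

@[reassoc (attr := simp)]
lemma res_e (n : ℕ) {T : Over (Spec (CommRingCat.of A))} (a : T ⟶ Y) :
    (res he n a).left ≫ e n = CohB1.thickι T.hom I n ≫ a.left :=
  (he n).lift_fst _ _ _

include he in
lemma hom_ext_e (n : ℕ) {T : Over (Spec (CommRingCat.of (A ⧸ I ^ (n + 1))))} {a b : T ⟶ X n}
    (h : a.left ≫ e n = b.left ≫ e n) : a = b := by
  ext1
  refine (he n).hom_ext h ?_
  rw [Over.w, Over.w]

lemma res_comp (n : ℕ) {T T' : Over (Spec (CommRingCat.of A))} (g : T ⟶ T') (a : T' ⟶ Y) :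
    res he n (g ≫ a) = levMap I n g ≫ res he n a := by
  apply hom_ext_e he
  rw [res_e, Over.comp_left, Over.comp_left, Category.assoc, res_e, levMap_ι_assoc]

lemma res_ext [IsNoetherianRing A] [IsAdicComplete I A] {T : Over (Spec (CommRingCat.of A))}
    [IsProper T.hom] [LocallyOfFiniteType Y.hom] {a b : T ⟶ Y} (h : ∀ n, res he n a = res he n b) :
    a = b := by
  ext1
  refine hom_ext (I := I) (fun n => thick_isPullback I T.hom n) (Over.w a) (Over.w b) (fun n => ?_)
  rw [← res_e he, ← res_e he, h]

/-- Compatibility of a family of points of the thickenings. -/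
def Compat (i : ∀ n, (X n).left ⟶ (X (n + 1)).left)
    (hi : ∀ n, i n ≫ (X (n + 1)).hom = (X n).hom ≫ CohB1.specQuotTrans I n)
    {T : Over (Spec (CommRingCat.of A))} (c : ∀ n, lev I n T ⟶ X n) : Prop :=
  ∀ n, tr I n T ≫ c (n + 1) = push (CohB1.specQuotTrans I n) (i n) (hi n) (c n)

variable (hi : ∀ n, i n ≫ (X (n + 1)).hom = (X n).hom ≫ CohB1.specQuotTrans I n)
  (hie : ∀ n, i n ≫ e (n + 1) = e n)

include he hie in
lemma compat_res {T : Over (Spec (CommRingCat.of A))} (a : T ⟶ Y) :
    Compat i hi (fun n => res he n a) := by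
  intro n
  apply hom_ext_e he
  have h1 : (tr I n T ≫ res he (n + 1) a).left ≫ e (n + 1) = CohB1.thickι T.hom I n ≫ a.left := by
    rw [Over.comp_left, Category.assoc, res_e, tr_ι_assoc]
  have h2 : (push (CohB1.specQuotTrans I n) (i n) (hi n) (res he n a)).left ≫ e (n + 1) =
      CohB1.thickι T.hom I n ≫ a.left := by
    rw [push_left, Category.assoc, hie, res_e]
  exact h1.trans h2.symm

include he hie in
lemma exists_of_compat [IsNoetherianRing A] [IsAdicComplete I A] {T : Over (Spec (CommRingCat.of A))}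
    [IsProper T.hom] [LocallyOfFiniteType Y.hom] [IsSeparated Y.hom] [QuasiCompact Y.hom]
    {c : ∀ n, lev I n T ⟶ X n} (hc : Compat i hi c) : ∃ a : T ⟶ Y, ∀ n, res he n a = c n := by
  obtain ⟨φ, hφ, hφn⟩ := exists_hom (I := I) (fun n => thick_isPullback I T.hom n)
    (fun n => thickTrans_toBase I T.hom n) (fun n => thickTrans_ι I T.hom n) he hi hie
    (fun n => (c n).left) (fun n => Over.w (c n))
    (fun n => congrArg (fun z => z.left) (hc n))
  refine ⟨Over.homMk φ hφ, fun n => ?_⟩
  apply hom_ext_e he
  rw [res_e]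
  exact hφn n

section Grp

variable [∀ n, GrpObj (X n)] (hmul : ∀ n, IsMul (CohB1.specQuotTrans I n) (i n) (hi n))

variable {hi}

include hmul in
lemma Compat.mul {T : Over (Spec (CommRingCat.of A))} {c d : ∀ n, lev I n T ⟶ X n} (hc : Compat i hi c)
    (hd : Compat i hi d) : Compat i hi (fun n => c n * d n) := by
  intro n
  rw [MonObj.comp_mul, hc n, hd n, hmul n]

include hmul in
lemma compat_one {T : Over (Spec (CommRingCat.of A))} :
    Compat i hi (fun n => (1 : lev I n T ⟶ X n)) := by
  intro n
  rw [MonObj.comp_one, (hmul n).map_one]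

include hmul in
lemma Compat.inv {T : Over (Spec (CommRingCat.of A))} {c : ∀ n, lev I n T ⟶ X n} (hc : Compat i hi c) :
    Compat i hi (fun n => (c n)⁻¹) := by
  intro n
  rw [GrpObj.comp_inv, hc n, (hmul n).map_inv]

instance isProper_tensor (T T' : Over (Spec (CommRingCat.of A))) [IsProper T.hom] [IsProper T'.hom] :
    IsProper (T ⊗ T').hom := by
  change IsProper (pullback.fst T.hom T'.hom ≫ T.hom)
  infer_instance

instance isProper_unit : IsProper (𝟙_ (Over (Spec (CommRingCat.of A)))).hom := by
  change IsProper (𝟙 _)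
  infer_instance

include he hie hmul in
/-- Algebraization of the group structure. -/
theorem exists_grpObj_aux [IsNoetherianRing A] [IsAdicComplete I A] [IsProper Y.hom] :
    ∃ _ : GrpObj Y, (∀ (n : ℕ) (T : Over (Spec (CommRingCat.of A))) (a b : T ⟶ Y),
      res he n (a * b) = res he n a * res he n b) := by
  obtain ⟨m, hm⟩ := exists_of_compat he hi hie
    (Compat.mul hmul (compat_res he hi hie (fst Y Y)) (compat_res he hi hie (snd Y Y)))
  obtain ⟨o, ho⟩ := exists_of_compat he hi hie (T := 𝟙_ _) (compat_one hmul)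
  obtain ⟨v, hv⟩ := exists_of_compat he hi hie (Compat.inv hmul (compat_res he hi hie (𝟙 Y)))
  have key : ∀ (n : ℕ) {T : Over (Spec (CommRingCat.of A))} (a b : T ⟶ Y),
      res he n (lift a b ≫ m) = res he n a * res he n b := by
    intro n T a b
    rw [res_comp, hm, MonObj.comp_mul, ← res_comp, ← res_comp, lift_fst, lift_snd]
  have keyo : ∀ (n : ℕ) {T : Over (Spec (CommRingCat.of A))} (a : T ⟶ 𝟙_ _),
      res he n (a ≫ o) = 1 := by
    intro n T a
    rw [res_comp, ho, MonObj.comp_one]
  have keyv : ∀ (n : ℕ) {T : Over (Spec (CommRingCat.of A))} (a : T ⟶ Y),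
      res he n (a ≫ v) = (res he n a)⁻¹ := by
    intro n T a
    rw [res_comp, hv, GrpObj.comp_inv, ← res_comp, Category.comp_id]
  let G : GrpObj Y :=
    { one := o
      mul := m
      inv := v
      one_mul := by
        have h1 : o ▷ Y = lift (fst _ _ ≫ o) (snd _ _) := by
          ext1 <;> simp
        rw [h1]
        refine res_ext he (fun n => ?_)
        rw [key, keyo, _root_.one_mul, leftUnitor_hom]
      mul_one := by
        have h1 : Y ◁ o = lift (fst _ _) (snd _ _ ≫ o) := by
          ext1 <;> simp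
        rw [h1]
        refine res_ext he (fun n => ?_)
        rw [key, keyo, _root_.mul_one, rightUnitor_hom]
      mul_assoc := by
        have h1 : m ▷ Y = lift (fst _ _ ≫ m) (snd _ _) := by
          ext1 <;> simp
        have h2 : (α_ Y Y Y).hom ≫ Y ◁ m =
            lift (fst _ _ ≫ fst _ _) (lift (fst _ _ ≫ snd _ _) (snd _ _) ≫ m) := by
          ext1
          · simp
          · rw [Category.assoc, whiskerLeft_snd, lift_snd, ← Category.assoc]
            congr 1
            ext1 <;> simp
        have h3 : (fst (Y ⊗ Y) Y ≫ m) = lift (fst _ _ ≫ fst _ _) (fst _ _ ≫ snd _ _) ≫ m := by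
          congr 1
          ext1 <;> simp
        rw [h1, ← Category.assoc, h2, h3]
        refine res_ext he (fun n => ?_)
        rw [key, key, key, key, _root_.mul_assoc]
      left_inv := by
        refine res_ext he (fun n => ?_)
        have h1 : v = 𝟙 Y ≫ v := (Category.id_comp _).symm
        rw [key, keyo, h1, keyv, inv_mul_cancel]
      right_inv := by
        refine res_ext he (fun n => ?_)
        have h1 : v = 𝟙 Y ≫ v := (Category.id_comp _).symm
        rw [key, keyo, h1, keyv, mul_inv_cancel] }
  exact ⟨G, fun n T a b => key n a b⟩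

end Grp

section Comp

variable [∀ n, GrpObj (X n)] [GrpObj Y]

/-- The graph of the structure morphism of a scheme over `A/I^(n+1)`. -/
noncomputable def δ (I : Ideal A) (n : ℕ) (T : Over (Spec (CommRingCat.of (A ⧸ I ^ (n + 1))))) :
    T ⟶ lev I n (Over.mk (T.hom ≫ CohB1.specQuot I n)) :=
  Over.homMk ((thick_isPullback I (T.hom ≫ CohB1.specQuot I n) n).lift (𝟙 _) T.hom (by simp))
    ((thick_isPullback I (T.hom ≫ CohB1.specQuot I n) n).lift_snd _ _ _)

@[reassoc (attr := simp)]
lemma δ_ι (n : ℕ) (T : Over (Spec (CommRingCat.of (A ⧸ I ^ (n + 1))))) :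
    (δ I n T).left ≫ CohB1.thickι (T.hom ≫ CohB1.specQuot I n) I n = 𝟙 _ :=
  (thick_isPullback I (T.hom ≫ CohB1.specQuot I n) n).lift_fst _ _ _

lemma δ_res (n : ℕ) {T : Over (Spec (CommRingCat.of (A ⧸ I ^ (n + 1))))}
    (c : Over.mk (T.hom ≫ CohB1.specQuot I n) ⟶ Y) :
    push (CohB1.specQuot I n) (e n) (he n).w (δ I n T ≫ res he n c) = c := by
  ext1
  rw [push_left, Over.comp_left, Category.assoc, res_e]
  exact δ_ι_assoc n T c.left

lemma δ_res_push (n : ℕ) {T : Over (Spec (CommRingCat.of (A ⧸ I ^ (n + 1))))} (a : T ⟶ X n) :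
    δ I n T ≫ res he n (push (CohB1.specQuot I n) (e n) (he n).w a) = a :=
  push_injective (he n) (δ_res he n _)

/-- The two forms of compatibility with the group laws are equivalent. -/
theorem isMul_iff (n : ℕ) : IsMul (CohB1.specQuot I n) (e n) (he n).w ↔
    ∀ (T : Over (Spec (CommRingCat.of A))) (a b : T ⟶ Y),
      res he n (a * b) = res he n a * res he n b := by
  constructor
  · intro H T a b
    apply push_injective (he n)
    rw [H]
    have key : ∀ c : T ⟶ Y, push (CohB1.specQuot I n) (e n) (he n).w (res he n c) =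
        (Over.homMk (CohB1.thickι T.hom I n) (thick_isPullback I T.hom n).w :
          Over.mk ((lev I n T).hom ≫ CohB1.specQuot I n) ⟶ T) ≫ c := by
      intro c
      ext1
      exact res_e he n c
    rw [key, key, key, MonObj.comp_mul]
  · intro H T a b
    rw [← δ_res he n (push (CohB1.specQuot I n) (e n) (he n).w a *
      push (CohB1.specQuot I n) (e n) (he n).w b), H, MonObj.comp_mul, δ_res_push, δ_res_push]

end Comp

include he hie in
/-- Algebraization of the group structure of an adic system of group schemes. -/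
theorem exists_grpObj [∀ n, GrpObj (X n)] (hmul : ∀ n, IsMul (CohB1.specQuotTrans I n) (i n) (hi n))
    [IsNoetherianRing A] [IsAdicComplete I A] [IsProper Y.hom] :
    ∃ _ : GrpObj Y, ∀ n, IsMul (CohB1.specQuot I n) (e n) (he n).w := by
  obtain ⟨g, hg⟩ := exists_grpObj_aux he hie hmul
  exact ⟨g, fun n => (isMul_iff he n).mpr (hg n)⟩

include he in
/-- Algebraization of commutativity. -/
theorem isCommMonObj [∀ n, GrpObj (X n)] [GrpObj Y] [∀ n, IsCommMonObj (X n)]
    (hY : ∀ n, IsMul (CohB1.specQuot I n) (e n) (he n).w)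
    [IsNoetherianRing A] [IsAdicComplete I A] [IsProper Y.hom] : IsCommMonObj Y := by
  have key : ∀ {T : Over (Spec (CommRingCat.of A))} [IsProper T.hom] (a b : T ⟶ Y), a * b = b * a := by
    intro T _ a b
    refine res_ext he (fun n => ?_)
    rw [(isMul_iff he n).mp (hY n), (isMul_iff he n).mp (hY n), _root_.mul_comm]
  constructor
  have h1 : μ[Y] = fst Y Y * snd Y Y := by
    rw [Hom.mul_def, lift_fst_snd, Category.id_comp]
  rw [h1, MonObj.comp_mul, braiding_hom_fst, braiding_hom_snd, key]

end Level

end K151.AlgGrp
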