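import Groth.Agent.AbVar.K151.AlgGrp

/-!
# Algebraization of adic systems: homomorphisms

`Y`, `Y'` schemes over a Noetherian `I`-adically complete ring `A` with thickenings `X n`, `X' n` (cartesian squares
`e n`, `e' n`).  A compatible family of morphisms `c n : X n ⟶ X' n` comes from exactly one morphism `Y ⟶ Y'`; it is a
homomorphism of group schemes if all `c n` are.
-/

set_option autoImplicit false
universe u

open CategoryTheory CategoryTheory.Limits AlgebraicGeometry MonoidalCategory CartesianMonoidalCategory MonObj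

namespace K151.AlgHom

open Groth.Agent.S0039 K151.AlgSys K151.AlgGrp

variable {A : Type u} [CommRing A] {I : Ideal A} {Y Y' : Over (Spec (CommRingCat.of A))}
  {X X' : ∀ n, Over (Spec (CommRingCat.of (A ⧸ I ^ (n + 1))))}
  {i : ∀ n, (X n).left ⟶ (X (n + 1)).left} {e : ∀ n, (X n).left ⟶ Y.left}
  {i' : ∀ n, (X' n).left ⟶ (X' (n + 1)).left} {e' : ∀ n, (X' n).left ⟶ Y'.left}
  (he : ∀ n, IsPullback (e n) (X n).hom Y.hom (CohB1.specQuot I n))
  (hi : ∀ n, i n ≫ (X (n + 1)).hom = (X n).hom ≫ CohB1.specQuotTrans I n)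
  (hie : ∀ n, i n ≫ e (n + 1) = e n)
  (he' : ∀ n, IsPullback (e' n) (X' n).hom Y'.hom (CohB1.specQuot I n))
  (hi' : ∀ n, i' n ≫ (X' (n + 1)).hom = (X' n).hom ≫ CohB1.specQuotTrans I n)
  (hie' : ∀ n, i' n ≫ e' (n + 1) = e' n)

include he in
/-- Morphisms from a proper scheme are determined by their restrictions to the thickenings. -/
theorem hom_ext [IsNoetherianRing A] [IsAdicComplete I A] [IsProper Y.hom]
    [LocallyOfFiniteType Y'.hom] {φ ψ : Y ⟶ Y'} (h : ∀ n, e n ≫ φ.left = e n ≫ ψ.left) : φ = ψ := by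
  ext1
  exact AlgSys.hom_ext he (Over.w φ) (Over.w ψ) h

include he hi hie he' hi' hie' in
/-- A compatible family of morphisms of the thickenings comes from exactly one morphism. -/
theorem existsUnique_hom [IsNoetherianRing A] [IsAdicComplete I A] [IsProper Y.hom]
    [LocallyOfFiniteType Y'.hom] [IsSeparated Y'.hom] [QuasiCompact Y'.hom]
    (c : ∀ n, X n ⟶ X' n) (hc : ∀ n, i n ≫ (c (n + 1)).left = (c n).left ≫ i' n) :
    ∃! φ : Y ⟶ Y', ∀ n, e n ≫ φ.left = (c n).left ≫ e' n := by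
  obtain ⟨φ, hφ, hφn⟩ := exists_hom (I := I) he hi hie he' hi' hie'
    (fun n => (c n).left) (fun n => Over.w (c n)) hc
  refine ⟨Over.homMk φ hφ, fun n => hφn n, fun ψ hψ => ?_⟩
  exact AlgHom.hom_ext he (fun n => (hψ n).trans (hφn n).symm)

/-- Restriction of points along a morphism. -/
lemma res_comp_hom (n : ℕ) {φ : Y ⟶ Y'} {c : X n ⟶ X' n} (hφ : e n ≫ φ.left = c.left ≫ e' n)
    {T : Over (Spec (CommRingCat.of A))} (a : T ⟶ Y) :
    res he' n (a ≫ φ) = res he n a ≫ c := by
  apply hom_ext_e he'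
  rw [res_e, Over.comp_left, Over.comp_left, Category.assoc, ← hφ, res_e_assoc]

include he he' in
/-- The algebraization of a compatible family of homomorphisms is a homomorphism. -/
theorem isMonHom [IsNoetherianRing A] [IsAdicComplete I A] [IsProper Y.hom]
    [LocallyOfFiniteType Y'.hom] [∀ n, GrpObj (X n)] [∀ n, GrpObj (X' n)] [GrpObj Y] [GrpObj Y']
    (hY : ∀ n, IsMul (CohB1.specQuot I n) (e n) (he n).w)
    (hY' : ∀ n, IsMul (CohB1.specQuot I n) (e' n) (he' n).w)
    (c : ∀ n, X n ⟶ X' n) [∀ n, IsMonHom (c n)] (φ : Y ⟶ Y')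
    (hφ : ∀ n, e n ≫ φ.left = (c n).left ≫ e' n) : IsMonHom φ := by
  apply Groth.Agent.Sga3B.Pts.isMonHom_of_universal
  refine res_ext he' (fun n => ?_)
  rw [(isMul_iff he' n).mp (hY' n), res_comp_hom he he' n (hφ n), res_comp_hom he he' n (hφ n),
    res_comp_hom he he' n (hφ n), (isMul_iff he n).mp (hY n), MonObj.mul_comp]

include he he' in
/-- The restriction of a product of two morphisms to a group scheme. -/
theorem mul_restrict (n : ℕ) [GrpObj (X' n)] [GrpObj Y']
    (hY' : IsMul (CohB1.specQuot I n) (e' n) (he' n).w) {φ ψ : Y ⟶ Y'} {c d : X n ⟶ X' n}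
    (hφ : e n ≫ φ.left = c.left ≫ e' n) (hψ : e n ≫ ψ.left = d.left ≫ e' n) :
    e n ≫ (φ * ψ).left = (c * d).left ≫ e' n := by
  have h := congrArg (fun z => z.left) (hY' (X n) c d)
  have hp : ∀ {a : X n ⟶ X' n} {α : Y ⟶ Y'}, e n ≫ α.left = a.left ≫ e' n →
      push (CohB1.specQuot I n) (e' n) (he' n).w a =
        (Over.homMk (e n) (he n).w : Over.mk ((X n).hom ≫ CohB1.specQuot I n) ⟶ Y) ≫ α := by
    intro a α hα
    ext1
    exact hα.symm
  rw [hp hφ, hp hψ, ← MonObj.comp_mul] at h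
  exact h.symm

end K151.AlgHom
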