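import Groth.Agent.S0039
import Groth.Agent.S5742

/-!
# Algebraization of adic systems: morphisms

`A` is a Noetherian ring complete for an ideal `I`, `S_n = Spec (A/I^(n+1))`.  A proper `A`-scheme is presented by
its thickenings through arbitrary cartesian squares `eX n : Xs n ⟶ X` over `S_n ⟶ Spec A`.

* `hom_ext`: two morphisms from a proper scheme which agree on all thickenings are equal;
* `exists_hom`: a compatible system of morphisms of thickenings comes from a (unique) morphism.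
-/

set_option autoImplicit false
universe u

open CategoryTheory CategoryTheory.Limits AlgebraicGeometry

namespace K151.AlgSys

open Groth.Agent.S0039

variable {A : Type u} [CommRing A] {I : Ideal A}
  {X Y : Scheme.{u}} {f : X ⟶ Spec (CommRingCat.of A)} {h : Y ⟶ Spec (CommRingCat.of A)}
  {Xs Ys : ℕ → Scheme.{u}} {p : ∀ n, Xs n ⟶ Spec (CommRingCat.of (A ⧸ I ^ (n + 1)))}
  {q : ∀ n, Ys n ⟶ Spec (CommRingCat.of (A ⧸ I ^ (n + 1)))}
  {iX : ∀ n, Xs n ⟶ Xs (n + 1)} {iY : ∀ n, Ys n ⟶ Ys (n + 1)}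
  {eX : ∀ n, Xs n ⟶ X} {eY : ∀ n, Ys n ⟶ Y}

/-- The comparison of an arbitrary base change to `S_n` with the chosen one. -/
noncomputable def θ (hX : ∀ n, IsPullback (eX n) (p n) f (CohB1.specQuot I n)) (n : ℕ) :
    Xs n ≅ CohB1.thick f I n :=
  IsPullback.isoIsPullback _ _ (hX n) (thick_isPullback I f n)

@[reassoc]
theorem θ_hom_ι (hX : ∀ n, IsPullback (eX n) (p n) f (CohB1.specQuot I n)) (n : ℕ) :
    (θ hX n).hom ≫ CohB1.thickι f I n = eX n :=
  IsPullback.isoIsPullback_hom_fst _ _ (hX n) (thick_isPullback I f n)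

@[reassoc]
theorem θ_hom_toBase (hX : ∀ n, IsPullback (eX n) (p n) f (CohB1.specQuot I n)) (n : ℕ) :
    (θ hX n).hom ≫ CohB1.thickToBase f I n = p n :=
  IsPullback.isoIsPullback_hom_snd _ _ (hX n) (thick_isPullback I f n)

@[reassoc]
theorem θ_trans (hX : ∀ n, IsPullback (eX n) (p n) f (CohB1.specQuot I n))
    (hiX : ∀ n, iX n ≫ p (n + 1) = p n ≫ CohB1.specQuotTrans I n)
    (heX : ∀ n, iX n ≫ eX (n + 1) = eX n) (n : ℕ) :
    (θ hX n).hom ≫ CohB1.thickTrans f I n = iX n ≫ (θ hX (n + 1)).hom := by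
  apply thick_ext
  · rw [Category.assoc, thickTrans_ι, θ_hom_ι, Category.assoc, θ_hom_ι, heX]
  · rw [Category.assoc, thickTrans_toBase, θ_hom_toBase_assoc, Category.assoc, θ_hom_toBase, hiX]

/-- Two morphisms from a proper scheme which agree on all thickenings are equal. -/
theorem hom_ext [IsNoetherianRing A] [IsAdicComplete I A] [IsProper f] [LocallyOfFiniteType h]
    (hX : ∀ n, IsPullback (eX n) (p n) f (CohB1.specQuot I n)) {a b : X ⟶ Y} (ha : a ≫ h = f)
    (hb : b ≫ h = f) (H : ∀ n, eX n ≫ a = eX n ≫ b) : a = b := by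
  refine Groth.Agent.S5742.result A I f h a b ha hb (fun n => ?_)
  rw [← cancel_epi (θ hX n).hom, θ_hom_ι_assoc, θ_hom_ι_assoc]
  exact H n

/-- A compatible system of morphisms of thickenings comes from a morphism. -/
theorem exists_hom [IsNoetherianRing A] [IsAdicComplete I A] [IsProper f] [IsSeparated h]
    [LocallyOfFiniteType h] [QuasiCompact h]
    (hX : ∀ n, IsPullback (eX n) (p n) f (CohB1.specQuot I n))
    (hiX : ∀ n, iX n ≫ p (n + 1) = p n ≫ CohB1.specQuotTrans I n)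
    (heX : ∀ n, iX n ≫ eX (n + 1) = eX n)
    (hY : ∀ n, IsPullback (eY n) (q n) h (CohB1.specQuot I n))
    (hiY : ∀ n, iY n ≫ q (n + 1) = q n ≫ CohB1.specQuotTrans I n)
    (heY : ∀ n, iY n ≫ eY (n + 1) = eY n)
    (g : ∀ n, Xs n ⟶ Ys n) (hg : ∀ n, g n ≫ q n = p n) (hgi : ∀ n, iX n ≫ g (n + 1) = g n ≫ iY n) :
    ∃ φ : X ⟶ Y, φ ≫ h = f ∧ ∀ n, eX n ≫ φ = g n ≫ eY n := by
  obtain ⟨φ, hφ, hφn⟩ := Groth.Agent.S0039.result A I f h
    (fun n => (θ hX n).inv ≫ g n ≫ (θ hY n).hom)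
    (fun n => by
      rw [Category.assoc, Category.assoc, θ_hom_toBase, hg, Iso.inv_comp_eq, θ_hom_toBase])
    (fun n => by
      rw [← cancel_epi (θ hX n).hom, θ_trans_assoc hX hiX heX, Iso.hom_inv_id_assoc, Category.assoc,
        Category.assoc, Iso.hom_inv_id_assoc, θ_trans hY hiY heY, reassoc_of% (hgi n)])
  refine ⟨φ, hφ, fun n => ?_⟩
  rw [← θ_hom_ι hX n, Category.assoc, hφn, Category.assoc, Category.assoc, Iso.hom_inv_id_assoc,
    θ_hom_ι]

end K151.AlgSys
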