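import Groth.Agent.AbVar.K151.NilHom
import Groth.Agent.AlgSp.K634.Quot
import Mathlib.AlgebraicGeometry.Morphisms.Smooth

/-!
# Local lifts of morphisms over a nilpotent thickening

`X`, `Y` over `Spec R`, `Y` smooth, `I` a nilpotent ideal of `R`, `f₀` a morphism from `X` mod `I` to `Y` mod `I`.
Then `f₀` lifts locally on `X`.
-/

set_option autoImplicit false
universe u
open CategoryTheory MonoidalCategory CartesianMonoidalCategory MonObj GrpObj AlgebraicGeometry Limits

namespace K151.NilLift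
open Groth.Agent.Sga3B.InfConj Groth.Agent.Sga3B.BcPts K151.NilHom

section bc

variable {S S' : Scheme.{u}} {f : S' ⟶ S}

lemma bcEquiv_left_fst {T : Over S'} {X : Over S} (x : (Over.map f).obj T ⟶ X) :
    (bcEquiv f T X x).left ≫ pullback.fst X.hom f = x.left := by
  obtain ⟨c, rfl⟩ := (bcEquiv f T X).symm.surjective x
  rw [Equiv.apply_symm_apply]
  rfl

lemma hom_ext_fst {T : Over S'} {X : Over S} {a b : T ⟶ Red.bc f X}
    (h : a.left ≫ pullback.fst X.hom f = b.left ≫ pullback.fst X.hom f) : a = b := by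
  apply (bcEquiv f T X).symm.injective
  ext1
  exact h

lemma map_left_fst {X Y : Over S} (g : X ⟶ Y) :
    ((Over.pullback f).map g).left ≫ pullback.fst Y.hom f = pullback.fst X.hom f ≫ g.left := by
  have h := congrArg (fun t => t.left) (bcEquiv_symm_comp f (𝟙 (Red.bc f X)) g)
  rw [Category.id_comp] at h
  exact h

end bc

variable {R : Type u} [CommRing R] (I : Ideal R) {X Y : Over (Spec (CommRingCat.of R))}

/-- `Spec (E/IE)` is the base change of `Spec E` to `R/I`. -/
noncomputable def cmp (E : Type u) [CommRing E] [Algebra R E] : qpt I E ⟶ Red.bc (φ I) (pt R E) :=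
  bcEquiv (φ I) (qpt I E) (pt R E) (qι I E)

lemma cmp_left_fst (E : Type u) [CommRing E] [Algebra R E] :
    (cmp I E).left ≫ pullback.fst (pt R E).hom (φ I) = (qι I E).left :=
  bcEquiv_left_fst _

instance isIso_cmp (E : Type u) [CommRing E] [Algebra R E] : IsIso (cmp I E) := by
  have h : IsPullback (qι I E).left (qpt I E).hom (pt R E).hom (φ I) :=
    K634.Quot.isPullback_quot (algebraMap R E) I
  have h1 : (cmp I E).left = h.isoPullback.hom := by
    apply pullback.hom_ext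
    · rw [IsPullback.isoPullback_hom_fst]
      exact cmp_left_fst I E
    · rw [IsPullback.isoPullback_hom_snd]
      exact Over.w (cmp I E)
  have h2 : IsIso (cmp I E).left := by
    rw [h1]
    infer_instance
  have h3 : IsIso ((Over.forget _).map (cmp I E)) := h2
  exact isIso_of_reflects_iso (cmp I E) (Over.forget _)

/-- Morphisms modulo `I` from an affine scheme to an affine chart of a smooth scheme lift. -/
theorem exists_lift_of_chart [Smooth Y.hom] (hI : IsNilpotent I) {E : Type u} [CommRing E] [Algebra R E]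
    (z : Red.bc (φ I) (pt R E) ⟶ Red.bc (φ I) Y) {D : CommRingCat.{u}} (v : Spec D ⟶ Y.left) [IsOpenImmersion v]
    (hz : Set.range (z.left ≫ pullback.fst Y.hom (φ I)) ⊆ Set.range v) :
    ∃ y : pt R E ⟶ Y, (Over.pullback (φ I)).map y = z := by
  obtain ⟨κ, hκ⟩ : ∃ κ : CommRingCat.of R ⟶ D, v ≫ Y.hom = Spec.map κ :=
    ⟨Spec.preimage _, by rw [Spec.map_preimage]⟩
  have hsm : κ.hom.Smooth := by
    have h1 : Smooth (v ≫ Y.hom) := inferInstance
    rw [hκ] at h1
    exact (HasRingHomProperty.Spec_iff (P := @Smooth)).mp h1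
  let l := IsOpenImmersion.lift v (z.left ≫ pullback.fst Y.hom (φ I)) hz
  have hl : l ≫ v = z.left ≫ pullback.fst Y.hom (φ I) := IsOpenImmersion.lift_fac _ _ _
  let K : Ideal E := I.map (algebraMap R E)
  let c : Spec (CommRingCat.of (E ⧸ K)) ⟶ (Red.bc (φ I) (pt R E)).left := (cmp I E).left
  obtain ⟨β, hβ⟩ : ∃ β : D →+* E ⧸ K, Spec.map (CommRingCat.ofHom β) = c ≫ l :=
    ⟨(Spec.preimage (c ≫ l)).hom, Spec.map_preimage _⟩
  let d : Spec (CommRingCat.of (E ⧸ K)) ⟶ (Red.bc (φ I) Y).left := (cmp I E ≫ z).left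
  have hd : d ≫ pullback.snd Y.hom (φ I) = Spec.map (CommRingCat.ofHom (qmap I E)) := Over.w (cmp I E ≫ z)
  have hβv : Spec.map (CommRingCat.ofHom β) ≫ v = d ≫ pullback.fst Y.hom (φ I) := by
    rw [hβ, Category.assoc, hl]
    exact (Category.assoc _ _ _).symm
  have hβκ : β.comp κ.hom = algebraMap R (E ⧸ K) := by
    have h1 : Spec.map (CommRingCat.ofHom β) ≫ Spec.map κ = Spec.map (CommRingCat.ofHom (algebraMap R (E ⧸ K))) := by
      rw [← hκ, ← Category.assoc, hβv, Category.assoc, pullback.condition, reassoc_of% hd,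
        ← Spec.map_comp, ← CommRingCat.ofHom_comp, qmap_comp]
    rw [← Spec.map_comp] at h1
    have h2 := Spec.map_injective h1
    ext c
    exact congr($h2 c)
  let _ : Algebra R D := κ.hom.toAlgebra
  have hfs : Algebra.Smooth R D := hsm
  let βA : D →ₐ[R] E ⧸ K := { β with commutes' := fun c => congr($hβκ c) }
  have hK : IsNilpotent K := by
    obtain ⟨n, hn⟩ := hI
    refine ⟨n, ?_⟩
    rw [← Ideal.map_pow, hn]
    exact Ideal.map_bot
  let γ : D →ₐ[R] E := Algebra.FormallySmooth.lift K hK βA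
  have hγ : ∀ d, Ideal.Quotient.mk K (γ d) = β d := fun d => Algebra.FormallySmooth.mk_lift K hK βA d
  let y : pt R E ⟶ Y := Over.homMk (Spec.map (CommRingCat.ofHom γ.toRingHom) ≫ v) (by
    rw [Category.assoc, hκ, ← Spec.map_comp]
    change _ = Spec.map _
    congr 1
    ext c
    exact γ.commutes c)
  refine ⟨y, ?_⟩
  rw [← cancel_epi (cmp I E)]
  apply hom_ext_fst
  rw [Over.comp_left, Category.assoc, map_left_fst, reassoc_of% (cmp_left_fst I E), qι_left]
  refine Eq.trans ?_ hβv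
  change Spec.map _ ≫ Spec.map _ ≫ v = _
  rw [← Category.assoc, ← Spec.map_comp]
  congr 2
  ext d
  exact hγ d

/-- `y` lifts the composite of `x` with `f₀`. -/
def Lifts (f₀ : Red.bc (φ I) X ⟶ Red.bc (φ I) Y) {T : Over (Spec (CommRingCat.of R))} (x : T ⟶ X)
    (y : T ⟶ Y) : Prop :=
  (Over.pullback (φ I)).map y = (Over.pullback (φ I)).map x ≫ f₀

variable {I} {f₀ : Red.bc (φ I) X ⟶ Red.bc (φ I) Y}

lemma Lifts.comp {T T' : Over (Spec (CommRingCat.of R))} {x : T ⟶ X} {y : T ⟶ Y} (h : Lifts I f₀ x y)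
    (t : T' ⟶ T) : Lifts I f₀ (t ≫ x) (t ≫ y) := by
  unfold Lifts at h ⊢
  rw [Functor.map_comp, h, Functor.map_comp, Category.assoc]

lemma Lifts.mul [GrpObj X] [GrpObj Y] [IsMonHom f₀] {T : Over (Spec (CommRingCat.of R))} {x x' : T ⟶ X}
    {y y' : T ⟶ Y} (h : Lifts I f₀ x y) (h' : Lifts I f₀ x' y') : Lifts I f₀ (x * x') (y * y') := by
  unfold Lifts at h h' ⊢
  rw [Functor.map_mul, Functor.map_mul, h, h', MonObj.mul_comp]

variable (I f₀)

omit I in
lemma surjective_φ (I : Ideal R) (hI : IsNilpotent I) : Surjective (φ I) := by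
  refine ⟨fun p => ?_⟩
  have h1 : p ∈ Set.range (PrimeSpectrum.comap (Ideal.Quotient.mk I)) := by
    rw [range_comap_of_surjective _ _ Ideal.Quotient.mk_surjective]
    intro x hx
    rw [SetLike.mem_coe, Ideal.mk_ker] at hx
    obtain ⟨n, hn⟩ := hI
    have h2 : x ^ n ∈ (⊥ : Ideal R) := by
      rw [← Ideal.zero_eq_bot, ← hn]
      exact Ideal.pow_mem_pow hx n
    have h3 : x ^ n ∈ p.asIdeal := by
      rw [Ideal.mem_bot.mp h2]
      exact p.asIdeal.zero_mem
    exact p.2.mem_of_pow_mem n h3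
  obtain ⟨q, hq⟩ := h1
  exact ⟨q, hq⟩

/-- Local existence of lifts. -/
theorem exists_local_lift [Smooth Y.hom] (hI : IsNilpotent I) (x₀ : X.left) :
    ∃ (U : X.left.Opens) (_ : x₀ ∈ U) (y : Over.mk (U.ι ≫ X.hom) ⟶ Y),
      Lifts I f₀ (Over.homMk U.ι : Over.mk (U.ι ≫ X.hom) ⟶ X) y := by
  let p : (Red.bc (φ I) X).left ⟶ X.left := pullback.fst X.hom (φ I)
  let q : (Red.bc (φ I) Y).left ⟶ Y.left := pullback.fst Y.hom (φ I)
  have hφs : Surjective (φ I) := surjective_φ I hI
  have hφc : IsClosedImmersion (φ I) := IsClosedImmersion.spec_of_surjective _ Ideal.Quotient.mk_surjective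
  have hps : Surjective p := MorphismProperty.pullback_fst _ _ hφs
  have hpc : IsClosedImmersion p := MorphismProperty.pullback_fst _ _ hφc
  obtain ⟨x₁, hx₁⟩ := hps.surj x₀
  obtain ⟨_, ⟨V, hV, rfl⟩, hyV, -⟩ := Y.left.isBasis_affineOpens.exists_subset_of_mem_open
    (Set.mem_univ ((f₀.left ≫ q) x₁)) isOpen_univ
  obtain ⟨W, hW, hWV⟩ := (p.isClosedEmbedding.isInducing.isOpen_iff).mp ((f₀.left ≫ q) ⁻¹ᵁ V).isOpen
  obtain ⟨_, ⟨U, hU, rfl⟩, hxU, hUW⟩ := X.left.isBasis_affineOpens.exists_subset_of_mem_open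
    (show x₀ ∈ W by
      rw [← hx₁]
      change x₁ ∈ p ⁻¹' W
      rw [hWV]
      exact hyV) hW
  refine ⟨U, hxU, ?_⟩
  let E := Γ(X.left, U)
  let t : Spec E ⟶ X.left := hU.fromSpec
  let a : CommRingCat.of R ⟶ E := Spec.preimage (t ≫ X.hom)
  have ha : Spec.map a = t ≫ X.hom := Spec.map_preimage _
  let _ : Algebra R E := a.hom.toAlgebra
  let t' : pt R E ⟶ X := Over.homMk t (by
    change t ≫ X.hom = Spec.map a
    rw [ha])
  obtain ⟨y, hy⟩ := exists_lift_of_chart I hI ((Over.pullback (φ I)).map t' ≫ f₀) hV.fromSpec (by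
    rw [hV.range_fromSpec]
    rintro _ ⟨w, rfl⟩
    have h1 : p (((Over.pullback (φ I)).map t').left w) ∈ W := by
      apply hUW
      have h2 : p (((Over.pullback (φ I)).map t').left w) = t ((pullback.fst (pt R E).hom (φ I)) w) := by
        rw [← Scheme.Hom.comp_apply, map_left_fst]
        rfl
      rw [h2, ← hU.range_fromSpec]
      exact ⟨_, rfl⟩
    have h3 : ((Over.pullback (φ I)).map t').left w ∈ (p : _ → _) ⁻¹' W := h1
    rw [hWV] at h3
    exact h3)
  let s : Over.mk (Scheme.Opens.ι U ≫ X.hom) ⟶ pt R E := Over.homMk hU.isoSpec.hom (by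
    change hU.isoSpec.hom ≫ Spec.map a = _
    rw [ha]
    exact hU.isoSpec_hom_fromSpec_assoc _)
  refine ⟨s ≫ y, ?_⟩
  have h4 : (Over.homMk (Scheme.Opens.ι U) : Over.mk (Scheme.Opens.ι U ≫ X.hom) ⟶ X) = s ≫ t' := by
    ext1
    exact hU.isoSpec_hom_fromSpec.symm
  rw [h4]
  exact Lifts.comp hy s

end K151.NilLift
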