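import Groth.Agent.AbVar.K511.HT.Iface
import Groth.Agent.AbVar.K151.AlgHom
import Groth.Agent.AbVar.K151.AlgAb
import Groth.Agent.AbVar.K151.NilLift
import Groth.Agent.S0056

/-!
# Honda–Tate, node ALG

Algebraization of an adic system of abelian schemes with endomorphisms and ample classes over a complete discrete
valuation ring.
-/

set_option autoImplicit false
universe u
open CategoryTheory MonoidalCategory CartesianMonoidalCategory MonObj GrpObj AlgebraicGeometry Limits

namespace K151.HTAlg
open K151.AlgGrp Groth.Agent.Grpsch Groth.Agent.Grpsch.PicGrp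

section

variable {S S' : Scheme.{u}} {t : S' ⟶ S} {X : Over S'} {Y : Over S} {e : X.left ⟶ Y.left}
  (he : IsPullback e X.hom Y.hom t)

/-- The comparison of a cartesian square with the base change. -/
noncomputable def ψ : X ≅ Red.bc t Y := Over.isoMk he.isoPullback he.isoPullback_hom_snd

lemma ψ_hom_left_fst : (ψ he).hom.left ≫ pullback.fst Y.hom t = e := he.isoPullback_hom_fst

lemma push_ψ {T : Over S'} (a : T ⟶ X) :
    push (X := Red.bc t Y) t (pullback.fst Y.hom t) pullback.condition (a ≫ (ψ he).hom) = push t e he.w a := by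
  ext1
  rw [push_left, push_left, Over.comp_left, Category.assoc, ψ_hom_left_fst]

theorem isMonHom_ψ [GrpObj X] [GrpObj Y] (h : IsMul t e he.w) : IsMonHom (ψ he).hom := by
  apply Groth.Agent.Sga3B.Pts.isMonHom_of_points
  intro T a b
  apply push_injective (X := Red.bc t Y) (X' := Y) (IsPullback.of_hasPullback Y.hom t)
  rw [isMul_bc t Y, push_ψ, push_ψ, push_ψ, h]

end

section

variable {S S' : Scheme.{u}} {t : S' ⟶ S} {X : Over S'} {Y : Over S} (e : Red.bc t Y ≅ X)

/-- the transition morphism -/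
noncomputable def tm : X.left ⟶ Y.left := e.inv.left ≫ pullback.fst Y.hom t

lemma tm_isPullback : IsPullback (tm e) X.hom Y.hom t := by
  refine IsPullback.of_iso_pullback ⟨?_⟩ ((Over.forget _).mapIso e.symm) rfl ?_
  · rw [tm, Category.assoc, pullback.condition]
    exact congrArg (fun z => z ≫ t) (Over.w e.inv)
  · exact Over.w e.inv

theorem isMul_tm [GrpObj X] [GrpObj Y] [IsMonHom e.hom] : IsMul t (tm e) (tm_isPullback e).w := by
  intro T a b
  have key : ∀ c : T ⟶ X, push t (tm e) (tm_isPullback e).w c =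
      push (X := Red.bc t Y) t (pullback.fst Y.hom t) pullback.condition (c ≫ e.inv) := by
    intro c
    ext1
    rw [push_left, push_left, Over.comp_left, Category.assoc]
    rfl
  rw [key, key, key, MonObj.mul_comp, isMul_bc t Y]

lemma tm_comm {X' : Over S'} {Y' : Over S} (e' : Red.bc t Y' ≅ X') {c : X ⟶ X'} {d : Y ⟶ Y'}
    (h : (Over.pullback t).map d ≫ e'.hom = e.hom ≫ c) : tm e ≫ d.left = c.left ≫ tm e' := by
  have h1 : e.inv ≫ (Over.pullback t).map d = c ≫ e'.inv := by
    rw [Iso.inv_comp_eq, ← Category.assoc, ← h, Category.assoc, Iso.hom_inv_id, Category.comp_id]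
  have h2 := congrArg (fun z => z.left ≫ pullback.fst Y'.hom t) h1
  simp only [Over.comp_left, Category.assoc] at h2
  rw [NilLift.map_left_fst] at h2
  simpa [tm] using h2

end

theorem main : K511.HT.ALG.{u} := by
  intro W _ _ _ _ g X _ _ hX e he L hL hamp O _ ρ hρ
  let m := IsLocalRing.maximalIdeal W
  let i : ∀ n, (X n).left ⟶ (X (n + 1)).left := fun n => tm (e n)
  have hcart : ∀ n, IsPullback (i n) (X n).hom (X (n + 1)).hom (CohB1.specQuotTrans m n) :=
    fun n => tm_isPullback (e n)
  have hmul : ∀ n, IsMul (CohB1.specQuotTrans m n) (i n) (hcart n).w := fun n => isMul_tm (e n)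
  -- representatives of the classes
  have hrep : ∀ n, ∃ (M : (X n).left.Modules) (hM : PicF.IsInvertible M), L n = PicGrp.mk M hM ∧
      (n = 0 → CohB1.IsAmple M) := by
    intro n
    rcases Nat.eq_zero_or_pos n with rfl | hn
    · obtain ⟨M, hM, h⟩ := hamp
      exact ⟨M, hM.1, h, fun _ => hM⟩
    · obtain ⟨M, hM, h⟩ := exists_mk (L n)
      exact ⟨M, hM, h, fun h0 => absurd h0 hn.ne'⟩
  choose M hM hLM hMa using hrep
  have hφ : ∀ n, Nonempty ((Scheme.Modules.pullback (i n)).obj (M (n + 1)) ≅ M n) := by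
    intro n
    have h1 := hL n
    rw [hLM, hLM, pull_mk] at h1
    exact (mk_eq_iff _ _).mp h1
  obtain ⟨Y, q, N, e', hq, -, -, he', hie, -⟩ := Groth.Agent.S0056.result W m (fun n => (X n).left)
    (fun n => (X n).hom) i hcart (hX 0).proper M hM hφ (hMa 0 rfl)
  let Y' : Over (Spec (CommRingCat.of W)) := Over.mk q
  have hqY : IsProper Y'.hom := hq
  let e₁ : ∀ n, (X n).left ⟶ Y'.left := e'
  have he'' : ∀ n, IsPullback (e₁ n) (X n).hom Y'.hom (CohB1.specQuot m n) := he'
  have hie' : ∀ n, i n ≫ e₁ (n + 1) = e₁ n := fun n => (hie n).symm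
  obtain ⟨gY, hgY⟩ := AlgGrp.exists_grpObj he'' (fun n => (hcart n).w) hie' hmul
  have hcomm : IsCommMonObj Y' := AlgGrp.isCommMonObj he'' hgY
  have hab : AgPol.IsAbSch Y' g := AlgAb.isAbSch he'' g hX hqY
  -- endomorphisms
  have hend : ∀ b, ∃! φ : Y' ⟶ Y', ∀ n, e₁ n ≫ φ.left = (ρ n b).toHom.left ≫ e' n := by
    intro b
    exact AlgHom.existsUnique_hom he'' (fun n => (hcart n).w) hie' he'' (fun n => (hcart n).w) hie'
      (fun n => (ρ n b).toHom) (fun n => tm_comm (e n) (e n) (hρ n b))
  choose φ hφn hφu using hend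
  have hφm : ∀ b, IsMonHom (φ b) := fun b => AlgHom.isMonHom he'' he'' hgY hgY
    (fun n => (ρ n b).toHom) (φ b) (hφn b)
  let ρm : O →* EndAV.End Y' :=
    { toFun := fun b => EndAV.End.of (φ b)
      map_one' := by
        apply EndAV.End.ext
        refine (hφu 1 (𝟙 _) (fun n => ?_)).symm
        rw [map_one]
        exact (Category.comp_id _).trans (Category.id_comp _).symm
      map_mul' := fun b b' => by
        apply EndAV.End.ext
        refine (hφu (b * b') (φ b' ≫ φ b) (fun n => ?_)).symm
        rw [map_mul, EndAV.End.toHom_mul, Over.comp_left, Over.comp_left, ← Category.assoc, hφn b' n,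
          Category.assoc, hφn b n, Category.assoc] }
  let ρ' : O →+* EndAV.End Y' := RingHom.mk' ρm (fun b b' => by
    apply EndAV.End.ext
    refine (hφu (b + b') (φ b * φ b') (fun n => ?_)).symm
    rw [map_add]
    exact AlgHom.mul_restrict he'' he'' n (hgY n) (hφn b n) (hφn b' n))
  refine ⟨Y', gY, hcomm, hab, ρ', fun n => (ψ (he'' n)).symm, fun n => ?_, fun n b => ?_⟩
  · have := isMonHom_ψ (he'' n) (hgY n)
    change IsMonHom (ψ (he'' n)).inv
    infer_instance
  · change (Over.pullback (CohB1.specQuot m n)).map (φ b) ≫ (ψ (he'' n)).inv = (ψ (he'' n)).inv ≫ (ρ n b).toHom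
    rw [Iso.comp_inv_eq, Category.assoc, Iso.eq_inv_comp]
    apply NilLift.hom_ext_fst
    rw [Over.comp_left, Category.assoc, NilLift.map_left_fst, ← Category.assoc, ψ_hom_left_fst, Over.comp_left,
      Category.assoc, ψ_hom_left_fst]
    exact hφn b n

end K151.HTAlg
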