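import Groth.Agent.AbVar.K151.NilLift
import Groth.Agent.Sga3B.Pts

/-!
# Lifting `r ^ n` times a homomorphism over a nilpotent thickening

`R` local, `r ∈ I`, `I ^ (n + 1) = 0`, `X`, `Y` over `Spec R`, `Y` a smooth commutative group scheme, `f₀` a morphism
modulo `I`.  Then `f₀ ^ (r ^ n)` lifts to a morphism `F : X ⟶ Y`, which is a homomorphism if `f₀` is.
-/

set_option autoImplicit false
universe u
open CategoryTheory MonoidalCategory CartesianMonoidalCategory MonObj GrpObj AlgebraicGeometry Limits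

namespace K151.NilGlue
open Groth.Agent.Sga3B.BcPts K151.NilHom K151.NilLift

variable {R : Type u} [CommRing R] (I : Ideal R) {X Y : Over (Spec (CommRingCat.of R))}
  {f₀ : Red.bc (φ I) X ⟶ Red.bc (φ I) Y}

section

variable [IsLocalRing R] [GrpObj Y] [IsCommMonObj Y] [Smooth Y.hom] (r n : ℕ) (hr : (r : R) ∈ I)
  (hn : I ^ (n + 1) = ⊥)

include hr hn

omit [Smooth Y.hom] in
lemma pow_eq_of_lifts {T : Over (Spec (CommRingCat.of R))} {x : T ⟶ X} {y y' : T ⟶ Y}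
    (h : Lifts I f₀ x y) (h' : Lifts I f₀ x y') : y ^ (r ^ n) = y' ^ (r ^ n) := by
  apply pow_eq_of_bc I r n hr hn
  unfold Lifts at h h'
  rw [h, h']

/-- Glueing of the powers of the local lifts. -/
theorem exists_glue (f₀ : Red.bc (φ I) X ⟶ Red.bc (φ I) Y) :
    ∃ F : X ⟶ Y, ∀ (T : Over (Spec (CommRingCat.of R))) (x : T ⟶ X) (y : T ⟶ Y),
      Lifts I f₀ x y → x ≫ F = y ^ (r ^ n) := by
  have hI : IsNilpotent I := ⟨n + 1, hn⟩
  choose U hU y hy using exists_local_lift I f₀ hI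
  let 𝒰 := X.left.openCoverOfIsOpenCover U (by
    rw [TopologicalSpace.IsOpenCover, ← top_le_iff]
    intro x _
    exact TopologicalSpace.Opens.mem_iSup.mpr ⟨x, hU x⟩)
  let F' : X.left ⟶ Y.left := 𝒰.glueMorphisms (fun a => (y a ^ (r ^ n)).left) (by
    intro a b
    let P : Over (Spec (CommRingCat.of R)) := Over.mk (pullback.fst (U a).ι (U b).ι ≫ (U a).ι ≫ X.hom)
    let s : P ⟶ Over.mk ((U a).ι ≫ X.hom) := Over.homMk (pullback.fst (U a).ι (U b).ι)
    let s' : P ⟶ Over.mk ((U b).ι ≫ X.hom) := Over.homMk (pullback.snd (U a).ι (U b).ι) (by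
      change pullback.snd (U a).ι (U b).ι ≫ (U b).ι ≫ X.hom = pullback.fst (U a).ι (U b).ι ≫ (U a).ι ≫ X.hom
      rw [pullback.condition_assoc])
    have h1 : s ≫ (Over.homMk (U a).ι : Over.mk ((U a).ι ≫ X.hom) ⟶ X) =
        s' ≫ (Over.homMk (U b).ι : Over.mk ((U b).ι ≫ X.hom) ⟶ X) := by
      ext1
      exact pullback.condition
    have h2 := (hy a).comp s
    have h3 := (hy b).comp s'
    rw [← h1] at h3
    have h4 := pow_eq_of_lifts I r n hr hn h2 h3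
    rw [← MonObj.comp_pow, ← MonObj.comp_pow] at h4
    exact congrArg (fun t => t.left) h4)
  have hF' : ∀ a, (U a).ι ≫ F' = (y a ^ (r ^ n)).left := fun a => 𝒰.ι_glueMorphisms _ _ a
  let F : X ⟶ Y := Over.homMk F' (by
    refine 𝒰.hom_ext _ _ fun a => ?_
    change (U a).ι ≫ F' ≫ Y.hom = (U a).ι ≫ X.hom
    rw [← Category.assoc, hF']
    exact Over.w (y a ^ (r ^ n)))
  have hF : ∀ a, (Over.homMk (U a).ι : Over.mk ((U a).ι ≫ X.hom) ⟶ X) ≫ F = y a ^ (r ^ n) := by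
    intro a
    ext1
    exact hF' a
  refine ⟨F, fun T x z hz => ?_⟩
  ext1
  refine Scheme.Cover.hom_ext (𝒰.pullback₁ x.left) _ _ fun a => ?_
  let Q : Over (Spec (CommRingCat.of R)) := Over.mk (pullback.fst x.left (U a).ι ≫ T.hom)
  let q : Q ⟶ T := Over.homMk (pullback.fst x.left (U a).ι)
  let q' : Q ⟶ Over.mk ((U a).ι ≫ X.hom) := Over.homMk (pullback.snd x.left (U a).ι) (by
    change pullback.snd x.left (U a).ι ≫ (U a).ι ≫ X.hom = pullback.fst x.left (U a).ι ≫ T.hom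
    rw [← pullback.condition_assoc, Over.w])
  have h1 : q ≫ x = q' ≫ (Over.homMk (U a).ι : Over.mk ((U a).ι ≫ X.hom) ⟶ X) := by
    ext1
    exact pullback.condition
  have h2 := (hy a).comp q'
  have h3 := hz.comp q
  rw [h1] at h3
  have h4 := pow_eq_of_lifts I r n hr hn h3 h2
  rw [← MonObj.comp_pow, ← MonObj.comp_pow, ← hF, ← Category.assoc, ← h1, Category.assoc] at h4
  exact congrArg (fun t => t.left) h4.symm

/-- The glued morphism is a homomorphism. -/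
theorem isMonHom_of_glue [GrpObj X] [IsMonHom f₀] {F : X ⟶ Y}
    (hF : ∀ (T : Over (Spec (CommRingCat.of R))) (x : T ⟶ X) (y : T ⟶ Y),
      Lifts I f₀ x y → x ≫ F = y ^ (r ^ n)) : IsMonHom F := by
  have hI : IsNilpotent I := ⟨n + 1, hn⟩
  apply Groth.Agent.Sga3B.Pts.isMonHom_of_universal
  have hloc : ∀ (x : X ⊗ X ⟶ X) (t : (X ⊗ X).left), ∃ (U : (X ⊗ X).left.Opens) (_ : t ∈ U)
      (y : Over.mk (U.ι ≫ (X ⊗ X).hom) ⟶ Y),
      Lifts I f₀ ((Over.homMk U.ι : Over.mk (U.ι ≫ (X ⊗ X).hom) ⟶ X ⊗ X) ≫ x) y := by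
    intro x t
    obtain ⟨U, hU, y, hy⟩ := exists_local_lift I ((Over.pullback (φ I)).map x ≫ f₀) hI t
    refine ⟨U, hU, y, ?_⟩
    unfold Lifts at hy ⊢
    rw [Functor.map_comp, Category.assoc, hy]
  choose U hU y hy using hloc (fst X X)
  choose V hV z hz using hloc (snd X X)
  let 𝒰 := (X ⊗ X).left.openCoverOfIsOpenCover (fun t => U t ⊓ V t) (by
    rw [TopologicalSpace.IsOpenCover, ← top_le_iff]
    intro x _
    exact TopologicalSpace.Opens.mem_iSup.mpr ⟨x, hU x, hV x⟩)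
  ext1
  refine 𝒰.hom_ext _ _ fun a => ?_
  let P : Over (Spec (CommRingCat.of R)) := Over.mk ((U a ⊓ V a).ι ≫ (X ⊗ X).hom)
  let s : P ⟶ X ⊗ X := Over.homMk (U a ⊓ V a).ι
  let s₁ : P ⟶ Over.mk ((U a).ι ≫ (X ⊗ X).hom) := Over.homMk ((X ⊗ X).left.homOfLE inf_le_left) (by
    change (X ⊗ X).left.homOfLE _ ≫ (U a).ι ≫ (X ⊗ X).hom = (U a ⊓ V a).ι ≫ (X ⊗ X).hom
    rw [Scheme.homOfLE_ι_assoc])
  let s₂ : P ⟶ Over.mk ((V a).ι ≫ (X ⊗ X).hom) := Over.homMk ((X ⊗ X).left.homOfLE inf_le_right) (by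
    change (X ⊗ X).left.homOfLE _ ≫ (V a).ι ≫ (X ⊗ X).hom = (U a ⊓ V a).ι ≫ (X ⊗ X).hom
    rw [Scheme.homOfLE_ι_assoc])
  have e₁ : s₁ ≫ (Over.homMk (U a).ι : Over.mk ((U a).ι ≫ (X ⊗ X).hom) ⟶ X ⊗ X) = s :=
    Over.OverMorphism.ext (Scheme.homOfLE_ι _ inf_le_left)
  have e₂ : s₂ ≫ (Over.homMk (V a).ι : Over.mk ((V a).ι ≫ (X ⊗ X).hom) ⟶ X ⊗ X) = s :=
    Over.OverMorphism.ext (Scheme.homOfLE_ι _ inf_le_right)
  have l₁ := (hy a).comp s₁
  have l₂ := (hz a).comp s₂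
  rw [← Category.assoc, e₁] at l₁
  rw [← Category.assoc, e₂] at l₂
  have h1 : s ≫ (fst X X * snd X X) ≫ F = s ≫ ((fst X X ≫ F) * (snd X X ≫ F)) := by
    rw [MonObj.comp_mul, ← Category.assoc, ← Category.assoc, ← Category.assoc, MonObj.comp_mul,
      hF _ _ _ l₁, hF _ _ _ l₂, hF _ _ _ (l₁.mul l₂), mul_pow]
  exact congrArg (fun t => t.left) h1

end

section reduction

variable {S S' : Scheme.{u}} {f : S' ⟶ S}

instance isIso_unit [Mono f] (Z : Over S') : IsIso (bcEquiv f Z ((Over.map f).obj Z) (𝟙 _)) := by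
  let v : Red.bc f ((Over.map f).obj Z) ⟶ Z := Over.homMk (pullback.fst ((Over.map f).obj Z).hom f) (by
    rw [← cancel_mono f, Category.assoc]
    exact pullback.condition)
  refine ⟨v, ?_, ?_⟩
  · ext1
    exact bcEquiv_left_fst _
  · apply hom_ext_fst
    rw [Over.comp_left, Category.assoc, bcEquiv_left_fst]
    rfl

end reduction

/-- The reduction of the glued morphism. -/
theorem map_glue [GrpObj Y] (N : ℕ) {F : X ⟶ Y}
    (hF : ∀ (T : Over (Spec (CommRingCat.of R))) (x : T ⟶ X) (y : T ⟶ Y),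
      Lifts I f₀ x y → x ≫ F = y ^ N) : (Over.pullback (φ I)).map F = f₀ ^ N := by
  have hc : IsClosedImmersion (φ I) := IsClosedImmersion.spec_of_surjective _ Ideal.Quotient.mk_surjective
  let x : (Over.map (φ I)).obj (Red.bc (φ I) X) ⟶ X := (bcEquiv (φ I) _ X).symm (𝟙 _)
  let y : (Over.map (φ I)).obj (Red.bc (φ I) X) ⟶ Y := (bcEquiv (φ I) _ Y).symm f₀
  have h1 : Lifts I f₀ x y := by
    unfold Lifts
    rw [← cancel_epi (bcEquiv (φ I) (Red.bc (φ I) X) _ (𝟙 _)), ← Category.assoc, ← bcEquiv_comp,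
      ← bcEquiv_comp, Category.id_comp, Category.id_comp, Equiv.apply_symm_apply, Equiv.apply_symm_apply,
      Category.id_comp]
  have h2 := congrArg (bcEquiv (φ I) (Red.bc (φ I) X) Y) (hF _ x y h1)
  rw [bcEquiv_comp, Equiv.apply_symm_apply, Category.id_comp] at h2
  rw [h2]
  have h3 := map_pow (bcMulEquiv (φ I) (Red.bc (φ I) X) Y) y N
  refine h3.trans ?_
  congr 1
  exact (bcEquiv (φ I) _ Y).apply_symm_apply f₀

end K151.NilGlue
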