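import Groth.Agent.AbVar.K511.HT.Iface
import Groth.Agent.AbVar.K151.NilGlue
import Groth.Agent.AbSch.K449.Rigid
import Groth.Agent.AgPol.K814.AbBasic

/-!
# Honda–Tate, node LIFT

Rigidity of homomorphisms of abelian schemes over a nilpotent thickening of a local ring, and the lifting of `r ^ n`
times a homomorphism.
-/

set_option autoImplicit false
universe u
open CategoryTheory MonoidalCategory CartesianMonoidalCategory MonObj GrpObj AlgebraicGeometry Limits

namespace K151.HTLift
open K151.NilHom K151.NilLift K151.NilGlue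

/-- Rigidity over a nilpotent thickening. -/
theorem eq_one_of_bc {R : Type u} [CommRing R] [IsLocalRing R] (I : Ideal R) (hI : IsNilpotent I)
    {X Y : Over (Spec (CommRingCat.of R))} [GrpObj X] [GrpObj Y] [Smooth X.hom] [IsProper X.hom]
    [GeometricallyConnected X.hom] (f : X ⟶ Y) [IsMonHom f] (hf : (Over.pullback (φ I)).map f = 1) :
    f = 1 := by
  let s : Spec (CommRingCat.of R) := IsLocalRing.closedPoint R
  have he : η[X].left ≫ X.hom = 𝟙 _ := Over.w η[X]
  have hef : η[X].left ≫ f.left = η[Y].left := by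
    rw [← Over.comp_left, IsMonHom.one_hom]
  have h1 : (1 : X ⟶ Y).left = X.hom ≫ η[Y].left := by
    rw [Hom.one_def]
    rfl
  have hs : Surjective (φ I) := surjective_φ I hI
  have hps : Surjective (pullback.fst X.hom (φ I)) := MorphismProperty.pullback_fst _ _ hs
  -- `f` is constant on points
  have hpt : ∀ x : X.left, f.left x = η[Y].left (X.hom x) := by
    intro x
    obtain ⟨x₁, rfl⟩ := hps.surj x
    have h2 := map_left_fst (f := φ I) f
    have h3 := map_left_fst (f := φ I) (1 : X ⟶ Y)
    rw [hf] at h2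
    rw [Functor.map_one] at h3
    have h4 : pullback.fst X.hom (φ I) ≫ f.left = pullback.fst X.hom (φ I) ≫ X.hom ≫ η[Y].left := by
      rw [← h2, h3, h1]
    have h5 := congrArg (fun t => t x₁) h4
    simpa using h5
  obtain ⟨U, hsU, hU⟩ := K449.Rigid.exists_open_of_fibre_section X.hom X.hom.isClosedMap
    (K814.AbBasic.isIso_app X) η[X].left he f.left s (fun x hx => by
      rw [hpt, hx]
      exact congrArg (fun t => t s) hef.symm)
  have hUt : U = ⊤ := (IsLocalRing.closedPoint_mem_iff (R := R) U).mp hsU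
  subst hUt
  ext1
  rw [h1, ← hef]
  have h6 : IsIso (⊤ : X.left.Opens).ι := by
    rw [← Scheme.topIso_hom]
    infer_instance
  exact (cancel_epi (⊤ : X.left.Opens).ι).mp hU

theorem main : K511.HT.LIFT.{u} := by
  intro R _ _ _ I r n _ hr hn X Y _ _ _ _ g g' hX hY
  have hI : IsNilpotent I := ⟨n + 1, hn⟩
  have := hX.smooth
  have := hX.proper
  have := hX.geomConnected
  have := hY.smooth
  refine ⟨fun f f' h => ?_, fun f₀ => ?_⟩
  · rw [← sub_eq_zero] at h ⊢
    rw [← map_sub] at h
    have h1 := congrArg (fun t => t.toHom) h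
    apply EndAV.Hom.ext
    exact eq_one_of_bc I hI (f - f').toHom h1
  · obtain ⟨F, hF⟩ := exists_glue I r n hr hn f₀.toHom
    have hmon : IsMonHom F := isMonHom_of_glue I r n hr hn hF
    refine ⟨EndAV.Hom.of F, ?_⟩
    apply EndAV.Hom.ext
    rw [EndAV.Hom.toHom_nsmul]
    exact map_glue I (r ^ n) hF

end K151.HTLift
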