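import Groth.Agent.AbVar.K511.HT.Iface3
import Groth.Agent.AbSch.K451.Prod
import Groth.Agent.Flat2G.ProperDim

/-!
# Honda–Tate, node PW

Powers of an abelian scheme of relative dimension one.
-/

set_option autoImplicit false
universe u
open CategoryTheory MonoidalCategory CartesianMonoidalCategory MonObj GrpObj AlgebraicGeometry Limits

namespace K151.HTPw
open K511.HT

/-- The trivial group scheme is an abelian scheme of relative dimension zero. -/
theorem isAbSch_unit (S : Scheme.{u}) : AgPol.IsAbSch (𝟙_ (Over S)) 0 := by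
  refine ⟨(inferInstance : Smooth (𝟙 S)), (inferInstance : IsProper (𝟙 S)), ?_, fun s => ?_⟩
  · change GeometricallyConnected (𝟙 S)
    refine ⟨fun K _ y Z fst snd hZ => ?_⟩
    have h1 : IsIso snd := hZ.isIso_snd_of_isIso
    have h2 : ConnectedSpace (Spec (CommRingCat.of K)) := inferInstance
    exact (Scheme.homeoOfIso (asIso snd)).symm.surjective.connectedSpace
      (Scheme.homeoOfIso (asIso snd)).symm.continuous
  · change topologicalKrullDim ↥((𝟙 S : S ⟶ S).fiber s) = (0 : ℕ)
    rw [Groth.Agent.FlatA.FibreDim.topologicalKrullDim_fiber_eq]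
    have h1 : (𝟙 S : S ⟶ S) ⁻¹' {s} = {s} := by
      ext x
      simp
    rw [h1]
    have h2 : Nonempty (TopologicalSpace.IrreducibleCloseds ({s} : Set S)) :=
      ⟨⟨{⟨s, rfl⟩}, isIrreducible_singleton, isClosed_discrete _⟩⟩
    rw [Nat.cast_zero]
    exact le_antisymm (topologicalKrullDim_zero_of_discreteTopology _) Order.krullDim_nonneg

theorem exists_pow (S : Scheme.{u}) (E : Over S) [GrpObj E] [IsCommMonObj E] (hE : AgPol.IsAbSch E 1) (g : ℕ) :
    ∃ (A : Over S) (_ : GrpObj A) (_ : IsCommMonObj A) (p : Fin g → (A ⟶ E)), IsPow E A p ∧ AgPol.IsAbSch A g := by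
  induction g with
  | zero =>
    refine ⟨𝟙_ (Over S), inferInstance, inferInstance, fun j => j.elim0, ⟨fun j => j.elim0, fun T v => ?_⟩,
      isAbSch_unit S⟩
    exact ⟨toUnit T, fun j => j.elim0, fun w _ => toUnit_unique _ _⟩
  | succ g ih =>
    obtain ⟨A, hA1, hA2, p, hp, hA⟩ := ih
    let p' : Fin (g + 1) → (A ⊗ E ⟶ E) := Fin.lastCases (snd A E) (fun j => fst A E ≫ p j)
    have hlast : p' (Fin.last g) = snd A E := Fin.lastCases_last
    have hcast : ∀ j : Fin g, p' j.castSucc = fst A E ≫ p j := fun j => Fin.lastCases_castSucc _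
    refine ⟨A ⊗ E, inferInstance, inferInstance, p', ⟨fun j => ?_, fun T v => ?_⟩,
      K451.Prod.isAbSch_tensor hA hE⟩
    · refine Fin.lastCases ?_ (fun j => ?_) j
      · rw [hlast]
        infer_instance
      · rw [hcast]
        have := hp.hom j
        infer_instance
    · obtain ⟨w, hw, hwu⟩ := hp.lift T (fun j => v j.castSucc)
      refine ⟨lift w (v (Fin.last g)), fun j => ?_, fun w' hw' => ?_⟩
      · refine Fin.lastCases ?_ (fun j => ?_) j
        · rw [hlast, lift_snd]
        · rw [hcast, lift_fst_assoc, hw]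
      · apply CartesianMonoidalCategory.hom_ext
        · rw [lift_fst]
          refine hwu _ (fun j => ?_)
          rw [← hw' j.castSucc, hcast, Category.assoc]
        · rw [lift_snd, ← hw' (Fin.last g), hlast]

theorem main : K511.HT.PW.{u} := fun S E _ _ hE g => exists_pow S E hE g

end K151.HTPw
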