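import Groth.Agent.Sga3B.InfConj

/-!
# The group law on infinitesimal points is additive

`G` a group scheme over `Spec C` with an affine open chart `Spec D` containing the unit section, `J` a square-zero
ideal of a `C`-algebra `E`.  Points of `G` with values in `E` which are trivial modulo `J` are ring homomorphisms
`ξ : D → E` congruent to the unit section `ε` modulo `J`, and the product is `ξ + υ - ε` (`mul_left_eq`).
Hence a number `N` with `N J = 0` kills these points (`pow_eq_one`).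
-/

set_option autoImplicit false
universe u
open CategoryTheory MonoidalCategory CartesianMonoidalCategory MonObj GrpObj AlgebraicGeometry Limits

namespace K151.InfAdd
open Groth.Agent.Sga3B.InfConj

section ring

variable (C : Type u) [CommRing C] {E : Type u} [CommRing E] [Algebra C E]

/-- Triples of elements of `E` congruent modulo `J`. -/
def R2 (J : Ideal E) : Subalgebra C (E × E × E) where
  carrier := {z | z.2.1 - z.1 ∈ J ∧ z.2.2 - z.1 ∈ J}
  mul_mem' := by
    rintro ⟨a, b, c⟩ ⟨a', b', c'⟩ ⟨h1, h2⟩ ⟨h1', h2'⟩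
    refine ⟨?_, ?_⟩
    · have : b * b' - a * a' = b * (b' - a') + a' * (b - a) := by ring
      change b * b' - a * a' ∈ J
      rw [this]
      exact J.add_mem (J.mul_mem_left _ h1') (J.mul_mem_left _ h1)
    · have : c * c' - a * a' = c * (c' - a') + a' * (c - a) := by ring
      change c * c' - a * a' ∈ J
      rw [this]
      exact J.add_mem (J.mul_mem_left _ h2') (J.mul_mem_left _ h2)
  add_mem' := by
    rintro ⟨a, b, c⟩ ⟨a', b', c'⟩ ⟨h1, h2⟩ ⟨h1', h2'⟩
    refine ⟨?_, ?_⟩
    · have : (b + b') - (a + a') = (b - a) + (b' - a') := by ring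
      change (b + b') - (a + a') ∈ J
      rw [this]
      exact J.add_mem h1 h1'
    · have : (c + c') - (a + a') = (c - a) + (c' - a') := by ring
      change (c + c') - (a + a') ∈ J
      rw [this]
      exact J.add_mem h2 h2'
  algebraMap_mem' := by
    intro r
    refine ⟨?_, ?_⟩
    · change algebraMap C E r - algebraMap C E r ∈ J
      rw [sub_self]
      exact J.zero_mem
    · change algebraMap C E r - algebraMap C E r ∈ J
      rw [sub_self]
      exact J.zero_mem

/-- first projection -/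
def πa (J : Ideal E) : R2 C J →ₐ[C] E := (AlgHom.fst C E (E × E)).comp (R2 C J).val

/-- second projection -/
def πb (J : Ideal E) : R2 C J →ₐ[C] E :=
  ((AlgHom.fst C E E).comp (AlgHom.snd C E (E × E))).comp (R2 C J).val

/-- third projection -/
def πc (J : Ideal E) : R2 C J →ₐ[C] E :=
  ((AlgHom.snd C E E).comp (AlgHom.snd C E (E × E))).comp (R2 C J).val

/-- the sum map `(a, b, c) ↦ b + c - a`, a ring homomorphism as `J` has square zero -/
def sm (J : Ideal E) (hJ : J * J = ⊥) : R2 C J →ₐ[C] E :=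
  AlgHom.ofLinearMap ((πb C J).toLinearMap + (πc C J).toLinearMap - (πa C J).toLinearMap) (by
    change (1 : E) + 1 - 1 = 1
    ring) (by
    rintro ⟨⟨a, b, c⟩, h1, h2⟩ ⟨⟨a', b', c'⟩, h1', h2'⟩
    change b * b' + c * c' - a * a' = (b + c - a) * (b' + c' - a')
    have hz : ∀ {u v : E}, u ∈ J → v ∈ J → u * v = 0 := fun hu hv => by
      have := Ideal.mul_mem_mul hu hv
      rwa [hJ, Ideal.mem_bot] at this
    have e1 : (b - a) * (c' - a') = 0 := hz h1 h2'
    have e2 : (c - a) * (b' - a') = 0 := hz h2 h1'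
    linear_combination -e1 - e2)

lemma sm_apply (J : Ideal E) (hJ : J * J = ⊥) (z : R2 C J) :
    sm C J hJ z = πb C J z + πc C J z - πa C J z := rfl

/-- the ring homomorphism to triples -/
def tri (J : Ideal E) {D : Type u} [CommRing D] (α β γ : D →+* E) (h1 : ∀ d, β d - α d ∈ J)
    (h2 : ∀ d, γ d - α d ∈ J) : D →+* R2 C J :=
  (α.prod (β.prod γ)).codRestrict (R2 C J) (fun d => ⟨h1 d, h2 d⟩)

variable {C}

lemma specMap_πa_surjective (J : Ideal E) (hJ : J * J = ⊥) :
    Function.Surjective (Spec.map (CommRingCat.ofHom (πa C J).toRingHom)) := by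
  intro P
  have hmem : ∀ e : E, ((e, e, e) : E × E × E) ∈ R2 C J := fun e => by
    refine ⟨?_, ?_⟩
    · change e - e ∈ J
      rw [sub_self]
      exact J.zero_mem
    · change e - e ∈ J
      rw [sub_self]
      exact J.zero_mem
  let Δ : E →+* R2 C J := ((RingHom.id E).prod ((RingHom.id E).prod (RingHom.id E))).codRestrict
    (R2 C J) hmem
  refine ⟨PrimeSpectrum.comap Δ P, ?_⟩
  apply PrimeSpectrum.ext
  ext z
  change Δ (πa C J z) ∈ P.asIdeal ↔ z ∈ P.asIdeal
  have hz : ∀ {u v : E}, u ∈ J → v ∈ J → u * v = 0 := fun hu hv => by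
    have := Ideal.mul_mem_mul hu hv
    rwa [hJ, Ideal.mem_bot] at this
  have h1 : (z - Δ (πa C J z)) ∈ P.asIdeal := by
    have h2 : (z - Δ (πa C J z)) * (z - Δ (πa C J z)) = 0 := by
      obtain ⟨⟨a, b, c⟩, h1, h2⟩ := z
      apply Subtype.ext
      change ((a - a) * (a - a), (b - a) * (b - a), (c - a) * (c - a)) = ((0 : E), (0 : E), (0 : E))
      rw [hz h1 h1, hz h2 h2, sub_self, mul_zero]
    rcases P.2.mem_or_mem (by rw [h2]; exact P.asIdeal.zero_mem) with h | h <;> exact h
  constructor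
  · intro h
    have := P.asIdeal.add_mem h1 h
    rwa [sub_add_cancel] at this
  · intro h
    have := P.asIdeal.sub_mem h h1
    rwa [sub_sub_cancel] at this

end ring

section points

variable {C : Type u} [CommRing C] {E : Type u} [CommRing E] [Algebra C E]
  {G : Over (Spec (CommRingCat.of C))} {D : CommRingCat.{u}} {j : Spec D ⟶ G.left}
  {κ : CommRingCat.of C ⟶ D} (hκ : j ≫ G.hom = Spec.map κ)

/-- The point of `G` given by a ring homomorphism on the chart. -/
noncomputable def P {E' : Type u} [CommRing E'] [Algebra C E'] (ζ : D →+* E')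
    (hζ : ζ.comp κ.hom = algebraMap C E') : pt C E' ⟶ G :=
  Over.homMk (Spec.map (CommRingCat.ofHom ζ) ≫ j) (by
    rw [Category.assoc, hκ, ← Spec.map_comp]
    change _ = Spec.map _
    rw [← hζ]
    rfl)

lemma P_left {E' : Type u} [CommRing E'] [Algebra C E'] (ζ : D →+* E')
    (hζ : ζ.comp κ.hom = algebraMap C E') : (P hκ ζ hζ).left = Spec.map (CommRingCat.ofHom ζ) ≫ j :=
  rfl

lemma ptMap_P {E' E'' : Type u} [CommRing E'] [Algebra C E'] [CommRing E''] [Algebra C E'']
    (φ : E' →ₐ[C] E'') (ζ : D →+* E') (hζ : ζ.comp κ.hom = algebraMap C E') (ζ' : D →+* E'')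
    (hζ' : ζ'.comp κ.hom = algebraMap C E'') (h : ∀ d, φ (ζ d) = ζ' d) :
    ptMap φ ≫ P hκ ζ hζ = P hκ ζ' hζ' := by
  ext1
  rw [Over.comp_left, P_left, P_left, ptMap_left, ← Category.assoc, ← Spec.map_comp]
  congr 2
  ext d
  exact h d

include hκ in
/-- A point whose underlying morphism is given by a ring homomorphism on the chart. -/
lemma exists_P {E' : Type u} [CommRing E'] [Algebra C E'] (x : pt C E' ⟶ G) (ζ : D →+* E')
    (hx : x.left = Spec.map (CommRingCat.ofHom ζ) ≫ j) :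
    ∃ hζ : ζ.comp κ.hom = algebraMap C E', x = P hκ ζ hζ := by
  have h1 : (Spec.map (CommRingCat.ofHom ζ) ≫ j) ≫ G.hom =
      Spec.map (CommRingCat.ofHom (algebraMap C E')) := by
    rw [← hx]
    exact Over.w x
  rw [Category.assoc, hκ, ← Spec.map_comp] at h1
  have h2 := Spec.map_injective h1
  refine ⟨?_, ?_⟩
  · ext c
    exact congr($h2 c)
  · ext1
    exact hx

variable [IsOpenImmersion j] [GrpObj G] {ε : D ⟶ CommRingCat.of C}

omit [GrpObj G] in
lemma P_inj {E' : Type u} [CommRing E'] [Algebra C E'] {ζ ζ' : D →+* E'}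
    {hζ : ζ.comp κ.hom = algebraMap C E'} {hζ' : ζ'.comp κ.hom = algebraMap C E'}
    (h : P hκ ζ hζ = P hκ ζ' hζ') : ζ = ζ' := by
  have h1 := congrArg (fun z => z.left) h
  rw [P_left, P_left, cancel_mono] at h1
  have h2 := Spec.map_injective h1
  ext d
  exact congr($h2 d)

omit [IsOpenImmersion j] in
lemma one_eq_P (hε : η[G].left = Spec.map ε ≫ j) {E' : Type u} [CommRing E'] [Algebra C E']
    (ζ : D →+* E') (hζ : ∀ d, ζ d = algebraMap C E' (ε.hom d)) :
    ∃ h, (1 : pt C E' ⟶ G) = P hκ ζ h := by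
  apply exists_P
  have h1 : (1 : pt C E' ⟶ G).left = Spec.map (CommRingCat.ofHom (algebraMap C E')) ≫ η[G].left := by
    rw [Hom.one_def]
    rfl
  rw [h1, hε, ← Category.assoc, ← Spec.map_comp]
  congr 2
  ext d
  exact (hζ d).symm

include hκ in
/-- The product of two infinitesimal points in terms of ring homomorphisms. -/
theorem mul_left_eq (hε : η[G].left = Spec.map ε ≫ j) (J : Ideal E) (hJ : J * J = ⊥)
    (x y : pt C E ⟶ G) (ξ υ : D →+* E) (hx : x.left = Spec.map (CommRingCat.ofHom ξ) ≫ j)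
    (hy : y.left = Spec.map (CommRingCat.ofHom υ) ≫ j)
    (hξ : ∀ d, ξ d - algebraMap C E (ε.hom d) ∈ J) (hυ : ∀ d, υ d - algebraMap C E (ε.hom d) ∈ J) :
    ∃ ω : D →+* E, (x * y).left = Spec.map (CommRingCat.ofHom ω) ≫ j ∧
      ∀ d, ω d = ξ d + υ d - algebraMap C E (ε.hom d) := by
  let e : D →+* E := (algebraMap C E).comp ε.hom
  have he : ∀ d, e d = algebraMap C E (ε.hom d) := fun _ => rfl
  obtain ⟨hξC, hxP⟩ := exists_P hκ x ξ hx
  obtain ⟨hυC, hyP⟩ := exists_P hκ y υ hy
  obtain ⟨heC, h1P⟩ := one_eq_P hκ hε (E' := E) e he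
  -- the two points with values in the ring of triples
  let α : D →+* R2 C J := tri C J e ξ e hξ (fun d => by rw [sub_self]; exact J.zero_mem)
  let β : D →+* R2 C J := tri C J e e υ (fun d => by rw [sub_self]; exact J.zero_mem) hυ
  have hα : α.comp κ.hom = algebraMap C (R2 C J) := by
    refine RingHom.ext fun c => Subtype.ext ?_
    change (e (κ.hom c), ξ (κ.hom c), e (κ.hom c)) = (algebraMap C E c, algebraMap C E c, algebraMap C E c)
    exact Prod.ext congr($heC c) (Prod.ext congr($hξC c) congr($heC c))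
  have hβ : β.comp κ.hom = algebraMap C (R2 C J) := by
    refine RingHom.ext fun c => Subtype.ext ?_
    change (e (κ.hom c), e (κ.hom c), υ (κ.hom c)) = (algebraMap C E c, algebraMap C E c, algebraMap C E c)
    exact Prod.ext congr($heC c) (Prod.ext congr($heC c) congr($hυC c))
  let a := P hκ α hα
  let b := P hκ β hβ
  have aa : ptMap (πa C J) ≫ a = 1 := by
    rw [h1P]; exact ptMap_P hκ _ _ _ _ _ (fun d => rfl)
  have ab : ptMap (πb C J) ≫ a = x := by
    rw [hxP]; exact ptMap_P hκ _ _ _ _ _ (fun d => rfl)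
  have ac : ptMap (πc C J) ≫ a = 1 := by
    rw [h1P]; exact ptMap_P hκ _ _ _ _ _ (fun d => rfl)
  have ba : ptMap (πa C J) ≫ b = 1 := by
    rw [h1P]; exact ptMap_P hκ _ _ _ _ _ (fun d => rfl)
  have bb : ptMap (πb C J) ≫ b = 1 := by
    rw [h1P]; exact ptMap_P hκ _ _ _ _ _ (fun d => rfl)
  have bc : ptMap (πc C J) ≫ b = y := by
    rw [hyP]; exact ptMap_P hκ _ _ _ _ _ (fun d => rfl)
  have sa : ptMap (sm C J hJ) ≫ a = x := by
    rw [hxP]; exact ptMap_P hκ _ _ _ _ _ (fun d => by
      rw [sm_apply]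
      change ξ d + e d - e d = ξ d
      ring)
  have sb : ptMap (sm C J hJ) ≫ b = y := by
    rw [hyP]; exact ptMap_P hκ _ _ _ _ _ (fun d => by
      rw [sm_apply]
      change e d + υ d - e d = υ d
      ring)
  -- their product lies in the chart
  have hr : Set.range (a * b).left ⊆ Set.range j := by
    rintro _ ⟨q, rfl⟩
    obtain ⟨q', rfl⟩ := specMap_πa_surjective (C := C) J hJ q
    have h1 : ptMap (πa C J) ≫ (a * b) = P hκ e heC := by
      rw [MonObj.comp_mul, aa, ba, _root_.one_mul, h1P]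
    have h2 := congrArg (fun z => z.left q') h1
    refine ⟨Spec.map (CommRingCat.ofHom e) q', ?_⟩
    exact h2.symm
  let l := IsOpenImmersion.lift j (a * b).left hr
  have hl : l ≫ j = (a * b).left := IsOpenImmersion.lift_fac j (a * b).left hr
  obtain ⟨ω', hω'⟩ : ∃ ω' : D →+* R2 C J, Spec.map (CommRingCat.ofHom ω') = l :=
    ⟨(Spec.preimage l).hom, Spec.map_preimage l⟩
  obtain ⟨hωC, hωP⟩ := exists_P hκ (a * b) ω' (by rw [hω', hl])
  have hcomp : ∀ (φ : R2 C J →ₐ[C] E), ∃ h, ptMap φ ≫ (a * b) =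
      P hκ (φ.toRingHom.comp ω') h := by
    intro φ
    have h : (φ.toRingHom.comp ω').comp κ.hom = algebraMap C E := by
      rw [RingHom.comp_assoc, hωC]
      exact φ.comp_algebraMap
    exact ⟨h, by rw [hωP]; exact ptMap_P hκ _ _ _ _ _ (fun d => rfl)⟩
  have key : ∀ (φ : R2 C J →ₐ[C] E) (ζ : D →+* E) (hζ : ζ.comp κ.hom = algebraMap C E),
      ptMap φ ≫ (a * b) = P hκ ζ hζ → ∀ d, φ (ω' d) = ζ d := by
    intro φ ζ hζ h d
    obtain ⟨h', hφ⟩ := hcomp φ
    rw [hφ] at h
    exact congr($(P_inj hκ h) d)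
  have k1 := key (πa C J) e heC (by rw [MonObj.comp_mul, aa, ba, _root_.one_mul, h1P])
  have k2 := key (πb C J) ξ hξC (by rw [MonObj.comp_mul, ab, bb, _root_.mul_one, hxP])
  have k3 := key (πc C J) υ hυC (by rw [MonObj.comp_mul, ac, bc, _root_.one_mul, hyP])
  refine ⟨(sm C J hJ).toRingHom.comp ω', ?_, fun d => ?_⟩
  · obtain ⟨h, hs⟩ := hcomp (sm C J hJ)
    rw [MonObj.comp_mul, sa, sb] at hs
    rw [hs]
    rfl
  · change sm C J hJ (ω' d) = _
    rw [sm_apply, k1, k2, k3]
    rfl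

include hκ in
/-- The powers of an infinitesimal point. -/
theorem pow_left_eq (hε : η[G].left = Spec.map ε ≫ j) (J : Ideal E) (hJ : J * J = ⊥)
    (x : pt C E ⟶ G) (ξ : D →+* E) (hx : x.left = Spec.map (CommRingCat.ofHom ξ) ≫ j)
    (hξ : ∀ d, ξ d - algebraMap C E (ε.hom d) ∈ J) (N : ℕ) :
    ∃ ω : D →+* E, (x ^ N).left = Spec.map (CommRingCat.ofHom ω) ≫ j ∧
      ∀ d, ω d = algebraMap C E (ε.hom d) + N * (ξ d - algebraMap C E (ε.hom d)) := by
  induction N with
  | zero =>
    obtain ⟨h, h1⟩ := one_eq_P hκ hε (E' := E) ((algebraMap C E).comp ε.hom) (fun _ => rfl)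
    refine ⟨(algebraMap C E).comp ε.hom, ?_, fun d => ?_⟩
    · rw [pow_zero, h1]
      rfl
    · rw [Nat.cast_zero, zero_mul, add_zero]
      rfl
  | succ N ih =>
    obtain ⟨ω, h1, h2⟩ := ih
    obtain ⟨ω', h3, h4⟩ := mul_left_eq hκ hε J hJ (x ^ N) x ω ξ h1 hx (fun d => by
      rw [h2, add_sub_cancel_left]
      exact J.mul_mem_left _ (hξ d)) hξ
    refine ⟨ω', by rw [pow_succ, h3], fun d => ?_⟩
    rw [h4, h2, Nat.cast_succ]
    ring

/-- Infinitesimal points are killed by every number which kills the ideal. -/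
theorem pow_eq_one (G : Over (Spec (CommRingCat.of C))) [GrpObj G] (D : CommRingCat.{u})
    (j : Spec D ⟶ G.left) [IsOpenImmersion j] (hj : Set.range η[G].left ⊆ Set.range j)
    {E : Type u} [CommRing E] [Algebra C E] (J : Ideal E) (hJ : J * J = ⊥) (N : ℕ)
    (hN : ∀ a ∈ J, (N : E) * a = 0) (x : pt C E ⟶ G)
    (hx : ptMap (Ideal.Quotient.mkₐ C J) ≫ x = 1) : x ^ N = 1 := by
  obtain ⟨ε, hε⟩ := exists_unit_ringHom G D j hj
  obtain ⟨ξ, hξ, hξ'⟩ := exists_ringHom G D j ε hε J hJ x hx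
  obtain ⟨κ, hκ⟩ : ∃ κ : CommRingCat.of C ⟶ D, j ≫ G.hom = Spec.map κ :=
    ⟨Spec.preimage _, by rw [Spec.map_preimage]⟩
  obtain ⟨ω, h1, h2⟩ := pow_left_eq hκ hε J hJ x ξ.hom hξ hξ' N
  obtain ⟨h, h3⟩ := one_eq_P hκ hε (E' := E) ω (fun d => by
    rw [h2, hN _ (hξ' d), add_zero])
  rw [h3]
  ext1
  exact h1

end points

end K151.InfAdd
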