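import Groth.Agent.AbVar.K151.InfAdd
import Mathlib.AlgebraicGeometry.Morphisms.Affine
import Mathlib.RingTheory.Ideal.Quotient.Nilpotent

/-!
# Nilpotent thickenings kill the infinitesimal points

`G` a group scheme over `Spec C` with an affine open chart containing the unit section, `K` an ideal of a
`C`-algebra `E` containing the number `r`.  If `z` is a point of `G` with values in `E` which is trivial modulo `K`,
then `z ^ (r ^ m)` is trivial modulo `K ^ (m + 1)`.
-/

set_option autoImplicit false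
universe u
open CategoryTheory MonoidalCategory CartesianMonoidalCategory MonObj GrpObj AlgebraicGeometry Limits

namespace K151.InfPow
open Groth.Agent.Sga3B.InfConj Groth.Agent.Sga3B.DSPts

variable {C : Type u} [CommRing C]

omit [CommRing C] in
lemma trivial_of_eq [CommRing C] {G : Over (Spec (CommRingCat.of C))} [GrpObj G] {E : Type u} [CommRing E]
    [Algebra C E] {K K' : Ideal E} (h : K' = K) {z : pt C E ⟶ G}
    (hz : ptMap (Ideal.Quotient.mkₐ C K) ≫ z = 1) : ptMap (Ideal.Quotient.mkₐ C K') ≫ z = 1 := by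
  subst h
  exact hz

/-- One step. -/
lemma step (G : Over (Spec (CommRingCat.of C))) [GrpObj G] (D : CommRingCat.{u})
    (j : Spec D ⟶ G.left) [IsOpenImmersion j] (hj : Set.range η[G].left ⊆ Set.range j)
    {E : Type u} [CommRing E] [Algebra C E] (K L : Ideal E) (hLK : L * L ≤ K) (r : ℕ)
    (hr : ∀ a ∈ L, (r : E) * a ∈ K)
    (w : pt C E ⟶ G) (hw : ptMap (Ideal.Quotient.mkₐ C L) ≫ w = 1) :
    ptMap (Ideal.Quotient.mkₐ C K) ≫ w ^ r = 1 := by
  let π := Ideal.Quotient.mkₐ C K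
  let w' := ptMap π ≫ w
  let J : Ideal (E ⧸ K) := L.map (Ideal.Quotient.mk K)
  have hJ : J * J = ⊥ := by
    rw [← Ideal.map_mul, eq_bot_iff]
    refine (Ideal.map_mono hLK).trans ?_
    rw [Ideal.map_quotient_self]
  have hN : ∀ a ∈ J, ((r : ℕ) : E ⧸ K) * a = 0 := by
    intro a ha
    obtain ⟨b, hb, rfl⟩ := (Ideal.mem_map_iff_of_surjective _ Ideal.Quotient.mk_surjective).mp ha
    rw [← map_natCast (Ideal.Quotient.mk K), ← map_mul, Ideal.Quotient.eq_zero_iff_mem]
    exact hr b hb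
  let φ : E ⧸ L →ₐ[C] (E ⧸ K) ⧸ J :=
    Ideal.Quotient.liftₐ L ((Ideal.Quotient.mkₐ C J).comp π) (fun a ha => by
      change Ideal.Quotient.mk J (Ideal.Quotient.mk _ a) = 0
      rw [Ideal.Quotient.eq_zero_iff_mem]
      exact Ideal.mem_map_of_mem _ ha)
  have h5 : (Ideal.Quotient.mkₐ C J).comp π = φ.comp (Ideal.Quotient.mkₐ C L) := rfl
  have h6 : ptMap (Ideal.Quotient.mkₐ C J) ≫ w' = 1 := by
    change ptMap (Ideal.Quotient.mkₐ C J) ≫ ptMap π ≫ w = 1
    rw [← Category.assoc, ptMap_comp, h5, ← ptMap_comp, Category.assoc, hw, MonObj.comp_one]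
  have h7 := InfAdd.pow_eq_one G D j hj J hJ r hN w' h6
  rw [MonObj.comp_pow]
  exact h7

/-- `z ^ (r ^ m)` is trivial modulo `K ^ (m + 1)`. -/
theorem pow_mk_eq_one (G : Over (Spec (CommRingCat.of C))) [GrpObj G] (D : CommRingCat.{u})
    (j : Spec D ⟶ G.left) [IsOpenImmersion j] (hj : Set.range η[G].left ⊆ Set.range j)
    {E : Type u} [CommRing E] [Algebra C E] (K : Ideal E) (r : ℕ) (hr : (r : E) ∈ K)
    (z : pt C E ⟶ G) (hz : ptMap (Ideal.Quotient.mkₐ C K) ≫ z = 1) (m : ℕ) :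
    ptMap (Ideal.Quotient.mkₐ C (K ^ (m + 1))) ≫ z ^ (r ^ m) = 1 := by
  induction m with
  | zero =>
    rw [pow_zero r, pow_one z]
    exact trivial_of_eq (by rw [zero_add, pow_one]) hz
  | succ m ih =>
    rw [pow_succ r m, pow_mul z]
    refine step G D j hj _ (K ^ (m + 1)) ?_ r ?_ _ ih
    · rw [← pow_add]
      exact Ideal.pow_le_pow_right (by omega)
    · intro a ha
      rw [pow_succ' K (m + 1)]
      exact Ideal.mul_mem_mul hr ha

/-- A point which is trivial modulo a nilpotent ideal `K` containing `r` is killed by a power of `r`. -/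
theorem pow_eq_one (G : Over (Spec (CommRingCat.of C))) [GrpObj G] (D : CommRingCat.{u})
    (j : Spec D ⟶ G.left) [IsOpenImmersion j] (hj : Set.range η[G].left ⊆ Set.range j)
    {E : Type u} [CommRing E] [Algebra C E] (K : Ideal E) (r : ℕ) (hr : (r : E) ∈ K)
    (z : pt C E ⟶ G) (hz : ptMap (Ideal.Quotient.mkₐ C K) ≫ z = 1) (n : ℕ) (hn : K ^ (n + 1) = ⊥) :
    z ^ (r ^ n) = 1 := by
  have h := pow_mk_eq_one G D j hj K r hr z hz n
  let ψ : E ⧸ K ^ (n + 1) →ₐ[C] E :=
    Ideal.Quotient.liftₐ (K ^ (n + 1)) (AlgHom.id C E) (fun a ha => by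
      rw [hn, Ideal.mem_bot] at ha
      rw [ha, map_zero])
  have h1 : ψ.comp (Ideal.Quotient.mkₐ C (K ^ (n + 1))) = AlgHom.id C E := by
    ext x
    rfl
  have h2 : ptMap ψ ≫ ptMap (Ideal.Quotient.mkₐ C (K ^ (n + 1))) = 𝟙 _ := by
    rw [ptMap_comp, h1, ptMap_id]
  have h3 := congrArg (fun t => ptMap ψ ≫ t) h
  simp only [MonObj.comp_one] at h3
  rw [← Category.assoc, h2, Category.id_comp] at h3
  exact h3

/-- Over a local ring the unit section lies in an affine chart. -/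
theorem exists_chart [IsLocalRing C] (G : Over (Spec (CommRingCat.of C))) [GrpObj G] :
    ∃ (D : CommRingCat.{u}) (j : Spec D ⟶ G.left) (_ : IsOpenImmersion j),
      Set.range η[G].left ⊆ Set.range j := by
  let s : Spec (CommRingCat.of C) := IsLocalRing.closedPoint C
  let e : Spec (CommRingCat.of C) ⟶ G.left := η[G].left
  obtain ⟨_, ⟨V, hV, rfl⟩, hyV, -⟩ := G.left.isBasis_affineOpens.exists_subset_of_mem_open
    (Set.mem_univ (e s)) isOpen_univ
  refine ⟨Γ(G.left, V), hV.fromSpec, inferInstance, ?_⟩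
  rw [hV.range_fromSpec]
  rintro _ ⟨x, rfl⟩
  have h1 : e ⁻¹ᵁ V = ⊤ := (IsLocalRing.closedPoint_mem_iff (R := C) (e ⁻¹ᵁ V)).mp hyV
  have h2 : x ∈ e ⁻¹ᵁ V := by
    rw [h1]
    trivial
  exact h2

end K151.InfPow
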