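import Groth.Agent.AbVar.K151.InfPow
import Groth.Agent.Sga3B.BcPts

/-!
# Points of a commutative group scheme which agree modulo a nilpotent ideal

`R` local, `I` an ideal with `I ^ (n + 1) = 0` containing the number `r`, `Y` a commutative group scheme over `R`.
If two `T`-points of `Y` have the same base change to `R/I`, their `r ^ n`-th powers agree.
-/

set_option autoImplicit false
universe u
open CategoryTheory MonoidalCategory CartesianMonoidalCategory MonObj GrpObj AlgebraicGeometry Limits

namespace K151.NilHom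
open Groth.Agent.Sga3B.InfConj Groth.Agent.Sga3B.BcPts

variable {R : Type u} [CommRing R] (I : Ideal R)

/-- `Spec (R/I) → Spec R`. -/
noncomputable abbrev φ : Spec (CommRingCat.of (R ⧸ I)) ⟶ Spec (CommRingCat.of R) :=
  Spec.map (CommRingCat.ofHom (Ideal.Quotient.mk I))

/-- The morphism `R/I → E/IE`. -/
noncomputable def qmap (E : Type u) [CommRing E] [Algebra R E] :
    R ⧸ I →+* E ⧸ I.map (algebraMap R E) :=
  Ideal.quotientMap _ (algebraMap R E) Ideal.le_comap_map

lemma qmap_comp (E : Type u) [CommRing E] [Algebra R E] :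
    (qmap I E).comp (Ideal.Quotient.mk I) = (Ideal.Quotient.mk _).comp (algebraMap R E) := by
  ext x
  rfl

/-- `Spec (E/IE)` over `R/I`. -/
noncomputable def qpt (E : Type u) [CommRing E] [Algebra R E] : Over (Spec (CommRingCat.of (R ⧸ I))) :=
  Over.mk (Spec.map (CommRingCat.ofHom (qmap I E)))

/-- `Spec (E/IE) → Spec E` over `R`. -/
noncomputable def qι (E : Type u) [CommRing E] [Algebra R E] : (Over.map (φ I)).obj (qpt I E) ⟶ pt R E :=
  Over.homMk (Spec.map (CommRingCat.ofHom (Ideal.Quotient.mk (I.map (algebraMap R E))))) (by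
    change Spec.map _ ≫ Spec.map _ = Spec.map _ ≫ Spec.map _
    rw [← Spec.map_comp, ← Spec.map_comp, ← CommRingCat.ofHom_comp, ← CommRingCat.ofHom_comp, qmap_comp])

lemma qι_left (E : Type u) [CommRing E] [Algebra R E] :
    (qι I E).left = Spec.map (CommRingCat.ofHom (Ideal.Quotient.mk (I.map (algebraMap R E)))) := rfl

variable {Y : Over (Spec (CommRingCat.of R))}

/-- A point of an affine test scheme with trivial base change is trivial modulo `I E`. -/
lemma mk_eq_one_of_bc [GrpObj Y] {E : Type u} [CommRing E] [Algebra R E] (z : pt R E ⟶ Y)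
    (hz : (Over.pullback (φ I)).map z = 1) :
    ptMap (Ideal.Quotient.mkₐ R (I.map (algebraMap R E))) ≫ z = 1 := by
  have h1 : qι I E ≫ z = 1 := by
    apply (bcEquiv (φ I) (qpt I E) Y).injective
    rw [bcEquiv_comp, hz, MonObj.comp_one, bcEquiv_one]
  have h2 := congrArg (fun t => t.left) h1
  rw [Over.comp_left, qι_left] at h2
  have h3 : (1 : (Over.map (φ I)).obj (qpt I E) ⟶ Y).left =
      ((Over.map (φ I)).obj (qpt I E)).hom ≫ η[Y].left := by
    rw [Hom.one_def]
    rfl
  have h4 : (1 : pt R (E ⧸ I.map (algebraMap R E)) ⟶ Y).left =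
      (pt R (E ⧸ I.map (algebraMap R E))).hom ≫ η[Y].left := by
    rw [Hom.one_def]
    rfl
  ext1
  rw [h4, Over.comp_left, ptMap_left]
  refine h2.trans (h3.trans ?_)
  congr 1
  change Spec.map _ ≫ Spec.map _ = Spec.map _
  rw [← Spec.map_comp, ← CommRingCat.ofHom_comp, qmap_comp]

/-- Points with trivial base change are killed by `r ^ n`. -/
theorem pow_eq_one_of_bc [IsLocalRing R] [GrpObj Y] (r n : ℕ) (hr : (r : R) ∈ I) (hn : I ^ (n + 1) = ⊥)
    {T : Over (Spec (CommRingCat.of R))} (x : T ⟶ Y) (hx : (Over.pullback (φ I)).map x = 1) :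
    x ^ (r ^ n) = 1 := by
  obtain ⟨D, j, hj, hjr⟩ := InfPow.exists_chart Y
  ext1
  refine T.left.affineOpenCover.openCover.hom_ext _ _ fun i => ?_
  let E := T.left.affineOpenCover.X i
  let t : Spec E ⟶ T.left := T.left.affineOpenCover.f i
  let a : CommRingCat.of R ⟶ E := Spec.preimage (t ≫ T.hom)
  let _ : Algebra R E := a.hom.toAlgebra
  have ha : Spec.map a = t ≫ T.hom := Spec.map_preimage _
  let t' : pt R E ⟶ T := Over.homMk t (by
    change t ≫ T.hom = Spec.map a
    rw [ha])
  have h1 : ptMap (Ideal.Quotient.mkₐ R (I.map (algebraMap R E))) ≫ (t' ≫ x) = 1 := by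
    apply mk_eq_one_of_bc
    rw [Functor.map_comp, hx, MonObj.comp_one]
  have h2 := InfPow.pow_eq_one Y D j hjr (I.map (algebraMap R E)) r (by
    have := Ideal.mem_map_of_mem (algebraMap R E) hr
    rwa [map_natCast] at this) (t' ≫ x) h1 n (by
    rw [← Ideal.map_pow, hn, Ideal.map_bot])
  rw [← MonObj.comp_pow] at h2
  have h3 := congrArg (fun z => z.left) (h2.trans (MonObj.comp_one t').symm)
  exact h3

/-- Points with the same base change have the same `r ^ n`-th power. -/
theorem pow_eq_of_bc [IsLocalRing R] [GrpObj Y] [IsCommMonObj Y] (r n : ℕ) (hr : (r : R) ∈ I)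
    (hn : I ^ (n + 1) = ⊥) {T : Over (Spec (CommRingCat.of R))} (x y : T ⟶ Y)
    (h : (Over.pullback (φ I)).map x = (Over.pullback (φ I)).map y) : x ^ (r ^ n) = y ^ (r ^ n) := by
  have h1 : (Over.pullback (φ I)).map (x * y⁻¹) = 1 := by
    have h2 : (Over.pullback (φ I)).map (x * y⁻¹) * (Over.pullback (φ I)).map y =
        (Over.pullback (φ I)).map y := by
      rw [← Functor.map_mul, inv_mul_cancel_right, h]
    exact mul_eq_right.mp h2
  have h2 := pow_eq_one_of_bc I r n hr hn _ h1
  rw [mul_pow, inv_pow, mul_inv_eq_one] at h2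
  exact h2

end K151.NilHom
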